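import Cfsg.Agent.M24.Chain

/-! # The model of `J₂`: tables -/

set_option autoImplicit false
set_option maxRecDepth 100000

namespace Cfsg.Agent.J8

open Cfsg.Agent.M24

def jB0 : ℕ := nat_lit 0x4ea73389bcda5d2f984c665339a4d65b2c95caa51299349e49259148e41218f47e391d8d46e31198b45e29158944e21118743e190d8542e11098341e09058140e01017f3fdf8fd7d3edf0f97b3dde8f5793cde0f1773bdd8ed753adc4e372395cce7743a5c0e16f37db8dd6d36db0d96b35da8d56934da0d16733d98cd6532d90c96331d88c56130d80c15f2fd78bd5d2ed70b95b2dd68b5592cd54ab562b55caf582c544a3522954ca7542a5349b4e2753c9f5028524934a2552c974c265148b462351c8f482450483422150c874422500813f1fcf87d3d1ecf0793b1dce875391cce071371bcd86d351acd0693319cc8653118cc0612f17cb85d2d16cb0592b15ca8552914c944b261349c4f2814490492311c88452110c80411f0fc783d1d0ec70391b0dc6835190cc6031170bc582d150ac50291309c48251108c40210f07c381d0d06c30190b05c28150904c20110703c180d0502c12010100c08050301c1000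
def jB1 : ℕ := nat_lit 0x8598f792cd81e2944aa42c0c281b13ac12f409b2265e2126e9334060d7200ba3c150d26bf98c5911b0cde1b0f325d65c2bc1e38741242820528709cca1c4a4a9ce2842c69466179b1494549c2494af47d9c42ad15d82c1ab088875b8b580b98aa036121882ca1b991ace93eb6a527657b7490825d119e0b8400bd2f3921b82248a63c65f4428b38e5898482f91b2777b4d66d0028fdd0795c9a4f6ec6ba38c04e011ba64870fa2dea2e7e9cd429f500025a9b4e268bec0668d44103923d902bf8f2b97a0153322661a54389ff2619b5122cf3f94db6255896d683015b608f0c510f1e4408aaa87d2e9091565231692e0ade31911f8ad4ccac6d103d0ca3039878a9caf83f420a32f112b23631333e40ed53ab48d46265b11c2705b1b4107209010b0386f9752c0941968987867290ce063b95a6900834a0f90b8b93e749553c4dd5048a22029228fcc5e219070ec23099a84ddb3077474683d248b16e3a722ad189e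
def jB2 : ℕ := nat_lit 0x26552b964d80a06010041007018125b379c4e4ae563098182c068b40c463391cda4d36e374b0593c9e0b45b67b38c8656cb6174bb6db68a6523b1dcb85d66b30cc676bb597abc70384aa542f17d7ebe6532cd2683a1d5aad46f37c9a4f25944945026139f4fb753ae351b85c2a1f0e7fbf9daec8e476472289c4a0702793cc5e2e1c0e48240180c64b247abd1fafc8643432180783844230a055108242a1d088644a0d188e48a2d208a46a3d42a04fa793a9c4da6924934a2552c974c2654ea5512a146a95329156b1572b15ead552c03e1e0884048250d06e2f168341ddcef8f47c8642190cc763a22115e2f0804062111904864f267b3de09058a456311994ca1f2f884c21cce474389d2e373b94180d05828d46b389c18ac4098482c17369b18cc70e8704021371bd84c364b20502913898582d158a8f87d5a2d4683540a006e363d1ed72b81e0f564b31f8f8fe7e5bad890492391a7531984d26b2e97cce6400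
def jB3 : ℕ := nat_lit 0x34217087884580d22b4c812dc301c864a24439432745e0c02ad81411cdc7f1733d9a251d3540a4e1e9b4a6f66f214d3016b294f8269cc2a13387ab6c40b97415620686492146ba558187ec2294520eda012466ef0439e4bae45907419032e39a54ec2a0dc9e8e4344caf30833d029245343e343b30cd1a33a8f0be3a2425ab9fe4928adc589f1f3e0e7351ca846327543f2082163129280b0e3acf60345b28a0597d9ad52bb1ab5e1c177ecb17c4262110b42d338e0be0f0507ccab53b06de4584038098705781c552b77b7e247841848e28f901bc4f0d589a9dc840724c312860cb9028c3f4862c3c551ea23004d90d2a1e31801a72f4c869dae722a7558906ecce04e38abdd8ead70c60088d65ad990fe910a4b69e3328044017cb0e2e6c6a46d7e9a710354e1619cb57b266747d38c509a248d233ec3238cc0410571054b191d4b34917a5275520d24ad915a0a6c104c1dc6ce95a25e6223453ea324d583cc8062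
def jB4 : ℕ := nat_lit 0x4de71399d4d94aa853aa544a451a9a5a09954ac42205e2f5b2d8341a643207fbfa190d1e0f4b0596ab51e8f5068308e4660b02391d84426150b7b3dce875150ac52288fc78c06170b807e3e8341e2915793cda0d12e174f2780e0750a8943a0d108441219f6fa1b8d82c172914e4b24391ce2f165d2ede0f1241244c276532c5c2f359a886426130e1f0e2d96a4d276934c30193d1ec3e1e592cc944c2692ca04e27946653499cba6b3097cc53a9f50269429b4e27926924aa512e964ca6004050401806010201dd0e573b89d2e47338c44233f9f848255b2dddaec2f17e09056b35c8240379b8763a63b1a4523168b0140b31989f8fd3b1dddcef5fafa31191a0d426126d36d54ad55ab15eb0572c59ccf88c40723862b10e2707cbe2351b369b08a446fb78ac57198c8603164324ce668140e030066334f87d4020653285aad1d4eb0783970b96e37428152a95022100d86a271232196588f45239208b46a451800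
noncomputable def jB (q : ℕ) : ℕ :=
  (@Bool.rec (fun _ => ℕ) (@Bool.rec (fun _ => ℕ) jB4 jB3 (Nat.ble q (nat_lit 3))) (@Bool.rec (fun _ => ℕ) jB2 (@Bool.rec (fun _ => ℕ) jB1 jB0 (Nat.ble q (nat_lit 0))) (Nat.ble q (nat_lit 1))) (Nat.ble q (nat_lit 2)))
def jA0 : ℕ := nat_lit 0x4ea73389bcda5d2f984c665339a4d65b2c95caa51299349e49259148e41218f47e391d8d46e31198b45e29158944e21118743e190d8542e11098341e09058140e01017f3fdf8fd7d3edf0f97b3dde8f5793cde0f1773bdd8ed753adc4e372395cce7743a5c0e16f37db8dd6d36db0d96b35da8d56934da0d16733d98cd6532d90c96331d88c56130d80c15f2fd78bd5d2ed70b95b2dd68b5592cd54ab562b55caf582c544a3522954ca7542a5349b4e2753c9f5028524934a2552c974c265148b462351c8f482450483422150c874422500813f1fcf87d3d1ecf0793b1dce875391cce071371bcd86d351acd0693319cc8653118cc0612f17cb85d2d16cb0592b15ca8552914c944b261349c4f2814490492311c88452110c80411f0fc783d1d0ec70391b0dc6835190cc6031170bc582d150ac50291309c48251108c40210f07c381d0d06c30190b05c28150904c20110703c180d0502c12010100c08050301c1000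
def jA1 : ℕ := nat_lit 0x4ea552b964b66b3499cca633097cba6d379c4e6371a8ec723f1e90c82472292c924f2694ca2170a86c321f0e88c4227128ac522f168cc61f6fa7ebf1fefe80c02070282c120f0684c21d6ea76bb1deee78bc1e6f27abd1eef67cbe0a250279389a4c25928a6522a950ae562c960b65a2e970be5e30980c66232990ce66349a0d66a369b0de6e389c0e6723a9d0ee763c9e0f67a3e9f0fe7e40a01128843a190a8441a09229047a391a8c45a2932984ba592a9449a4942a04fa793a9c4da6952a853a994aa451a8962b057ab95aac55aa966b25aad16eb65cae176ba5eaf17ebe60b0186c262b118ec664b2196ca66b319ece68b41a6d26ab51aed66cb61b6da6eb71bede70b81d2e873b99cae471b88562a168b05e2e188c066321a8d06e361c8e0763a1e8f07e3e209008642229108e4624920160a068301e0e0884026120a8502e160c860361a0e8703e1e108804622128904e26148a012010100c08050301c1000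
def jA2 : ℕ := nat_lit 0x4ea592d954ae653097cd65d3499cc671399b4dddeee783c5f0f97bbd9daec753ade4f37abd2090580c01f4fb83c19fafc8442607027f3fe1d0f89c4a311986c322f168542e23108a456492591c8a371a8e4764d2794ca243208f47d1a9145a3d189045238be5e3b9d974bb6934cc46365b28a6526d36cb45b391cd7ebe6bb58d66a63b18dc6f6130cc86566b30aa546e374fe7e592ccf67a5b2dd2c924c2512e934ca54a04c27128a24d2792d068742a2504864222156af56ac554ae562c1d0e473389d2e573b8d3c9a502713e9b50a74f87d5cae100815aad0ac576fb78ce666733ce07162314da6c64b20ba5c3a9d180c16c364b05970b80d26868344c0613c1e57abc6ab514aa951a9d48a8512989049160b480411d0ec88451f8f86e362110c60311e8f06a34170bc7039190cc8c47150ac2c170904c4a2408044180d0f07c140b0c860361a140a428151309c44230783840210e0741207040140c03020040400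
def jA3 : ℕ := nat_lit 0x4ea6d379c4e65f2e994ce61319acd2552b964b60b048140e11097e3f60d077d3ee01017fbf9dcef79bc9d4eb763b5ecf77c3e5e2f07a3d649259048653289349e391d8dc6a45238f47e1d0f88446150b8bc5a1b0c8c46625138a45532964a24d30974aa4976ba6934cbc5f3b9d99acc32990ac576f37ce8752e971b2d860304d46b63b1988c5389c194cb3118cb25870b8166b23f1fcf87d5cae1228e4622d208f46a29128542221068743208a24d26140964f27129d2e5723a1c6e77338962ad562c156af572a952a65228d50a752a88f67a5b2dd68b540a00a6526db69a0d1341a586c2371bcda6c64324e4732d969aed65f2fca8556e3759ece339997abc6a354c0613c9e1429e4e26d409f4ea68562a2311c844322114743b1f8f86c372010464331e0f46a341c0e45c2f180c4582d2492042200e8704a241108c52280a8504e260c064341b068303e1e058282011078382e16098481206028200e02008100600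
def jA4 : ℕ := nat_lit 0x26552b9bcb40605040080e010201a6d2c9c4e4aa542f9797ebe65b28d0693a1d5a8d56f37ca6523b1dcba5c66334ce666b35d7abc70384b2583c1e4b45b67b38c8656cb6176ba6d36cac573098180c168b40c463399c9a4d36eb70a04a2693c984e2892e150b8d46dd6ea7d3edfefe8743e391d763b5e6f281c0a251391c887039170bc603120105e8f592c921b0c7ebf01c0f0c8602815118890c8444209128343a1552a853a994aa451a892e954926126994b251389e50a6d409a4ea7d148b462351c8f482455aaf55ac554b0562b820110f878341b128920d078b45e3d1f77bb86632219088a441d8ea412188c420101783c5eef693c9a2b148241613087c3e653288cc61c6e973391cee5713a0160a06830da6c379b984c30e0744021359a990c9098482e16389c188c56331c4c27140a4542b160b4f67a59ac8783d3f9f87c3f3e1f56eb61a8d168b51b8d900815c2e48e4624922753398cba692f9acca6000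
def jA5 : ℕ := nat_lit 0x26732b964b41007030140803010066d379c4a99ece6cb60f2782c961b4db5d2ecb45b32195a2d060305a6d22b15dbadc30184e6723118d94cb5faf9aad42a155bede2f17ce875349a19acc6b35cee762914dc2e05e2f4ba5c3319dd2e873b99cae471b89e2f080c022310904864f267b3de0b048ac52331894ca1f2f8844248642190cc743b229122d1783c19dcef8f47c3e1e0804448250d8690e864120d108942a111c8f45a2922904623530924b2512e954ca4d36a14ea7d389e4d2814aa4542a544a353a9958ad58ac156aa572bc30190783846220a0564b247abd1f8fd86c305c2f1c8e08240180c5f6fa753ae351b8542e1d0f7f3fddaec8e47647228944e0503793cc944b261349c4f28144381d0984986c264b20da6c0502c4e2662314de6e0603452286331cd46b381c440210b8586a341e8f168b53e9f0582d5cae0904959ac90081158a8f47b239196cb73f9f86c371f0fe75359a4ce6531984be5c00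
def jA6 : ℕ := nat_lit 0x265538964b404080201806050081e6d3795ce4cc672e17578bd70384a6523b9d9aed666b30d2683a1d4be5e6f37caa546a3557ebe6532cc662391ccc0616eb70ac5769b4982c068344ca642d16d76ba6d36cb2583c1e5b2d86733c9e4e2512ca0512693245238944e0702793cddaec8ec721d0f7fbf9f4fb753ae371a8542c8240188c05c2f1c0e5fafc86c3249257abd044230a05430190703d54ab562b55caf582c5208a472311e8d48a2d2a944c26524934ba593c9f4da6942a04e27546a952a9d48a6512a1128843a190a8441a084a240d8683e1e08841dcef8fc7a2d178341c763a229108443190ce3318944a5f2f884c2209058ac524d277b3dde2f080406231090c81c8e574ba1c6e27339c40210b05cde6e361b592c81309c140b389c184c3148a01a0c351ad8ec6623143a1c098486e361f0fd02805c2e490493e9f05a2c3f9f968b52311d6cb7158a8f67a592cc6a341e0f67534974ca613398cd65e00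
def jA7 : ℕ := nat_lit 0x4ea572d9bce65f3199cd65d30994d2552c9b4e2532891c8a4f2692c923f1e8ec7243208dc69dcef763b5e4f375ba9f2f8783c5ecf77a3d61b0c8a456311988c4227128542e1d0f8bc5a070284425fefe83c19fafc82c11f4fb80c015ab1562c156af552b980c16fb78c8653b9d9c2e03118cd2686d36cf07933999b8dd5faf8e27063b1990c9371bdb0d92f978c0616bb5972b83f1fd02805b2dd2c944ca4d30924ba5552a45328d50a553a88985126940964e2513dc8e972ba1c6e67139d228c4722d208d47a293c9c50a6d409a4fa74f87d59ac968b53d9e8ba5c6934daad42d16d88c5351acda6c61b08ea742b15d9acc5d2ecb05965b29a0d1299497abc6733caa54391cd0a89422210687412185a2c1e8f08a441d0ec86421f8f8562a201046433249206a34188c07039178b86e3623918180d0904c4a240c0645228118883a1c0a0543c1f0b858221005828341b0783840211309c1208030140e020200c0200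
def jA8 : ℕ := nat_lit 0x4ea6d2a9bcae652e99cbe69309acc6712c9ccb6532892c92472293c9a3b1c90c823f1e8dc6a09057dbea0d0780c0207027e3f613087f3fdecf779bc9deee7cbe1d6ea7abd1e2f0763b6231086436150b8a4561d0f8c4662d1789c493096492512e994aa4db2d86fb7998cd6934d80c15dae8ea743b1dcb85d2b15cca642f97988c563b18e071359a9c0e165b28b2583118d72b8592ccf87d3f9f9d0e672389d2e772b8d52a551a9d48a8532890e8541a250488432115ead55ac554b0572b1228d45a3d189047228a04e26128a24f2692d6ab45b2dd00813d9e9a0d16db68d2682914d92c86130cda6c371bdaad467b39b8dd6b35d78bd5faf8f278391ccc0613319caa542d969409e4d2713ea14ea6c6e36158a88a4420900743b1f8f88e462110c6031168b06a341c0e46632178b892481e8f042200502c4a240f878180d0c0643a1c0804444230b858341b1309c2a140783850290984812080281c0c03010100200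
def jA9 : ℕ := nat_lit 0x4de732d9d4ad4ca45128d50a953a9670099b4a8381d68b40f0792e176291583c19e6f21f8f9b2d85eaf24121100847a3c349a21b0c7fbf9ecf78fc79c0e1158a8502985c28e875301848e4684425e8f58ec71a8d560b00b05906831cce471ba5c4e873b9609051a0d44e2669b4a33186532de0f16db6a4f262492026126b35c84436331c743b61b09deee5d2ee2f165f2fc4a2459ac83c1f5bad932984b25d289549a4a613197cd65d34994cd0c8441221068943a1562b0572bd58ad55aa802070200c0c0501021389e4da8534a04ea7c32183f1fc46223d9ea49253b1ddf8fd399c88041351ac5e2e371be1f0e1b8d8160a2f979f4fb3198a452329949d8ed160b42c172d9689e4e28940964a269319ece7cbe08a4464324e0718dc6a231062314623033999bcdf190cc7238369b0ac5781c0a01016eb7172b83e9f225135a2d651290804502802a1542a1466b30341b0703dd6ea32992588a48235188f4722d2200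
def jA10 : ℕ := nat_lit 0xc040401e5d2f99cc665309a4d404010280d449151a414c8d53a311ea44729516a8452a50aae552250eac55a2106b057a1104b156a1896e873931c45126b99ca4e253a49ee4719413e944b275369849285349949a813c954ba71fd0883c0a02fc7dc1578776f951a0636c16cb0db33335aa5e39304acdd3c2edac5d659a0520a0b074242113035a4615f9d0a4e167194683f169186c3d15126191087c62171489c5e351c91c963d2093ca5e4ee7cbb5ecea7abc5e0f475bddd8f877bce512690c7e49228ec6e2d128ac2a330e88c34902b1e0dc8e2c1f0d4c8cf7014ceabe3034c18271004c3817058a0d2ca2e35d74796e15d80732fb5198676d164b4d931344aade3b2f608fa7ec02070684bfd64813ead81e240a87834195c1ed687f1104420233f2d4f4b90c06c3e14128396e7c402cd926a3830c5e441c0ed886f189098c6d1910480333631c8630373147439228b9847135b2013379b4e65738954b6593a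
def jA11 : ℕ := nat_lit 0x2693299cb80a02040180601038126b3098cbd448a53a3d468b532391aa5482a118a448aa52a9d502612e9f50a65249a4e251269b4f2595c8641aad04aa562110eaf58a25608842ab5ce4f25389d05026b95cc4e25b8dd25126391c0bc2e19998d63b149eeed8d4a20cfc85c6619167c3aa4122823fa07018a439e0f292c7c8c2c1a0f8902a1b8f5f50893c75def5884482c1c09884142806098c257319cd82d16eb4dbe695f97daa7565954f25b67b6cb2656caed74d832161b4ce2d1e0a8ca3a350bcbe34379a4dc68300e4622b1804e0d1482c40120e85e27117a3ba392684bec7836159247e351691e3d2479bc61f1580409ff0591c85d6f98bc36310a7ec1e531b763d8a6776bb34ce5d5eb84321b0a87d707a402c9687e0789422235b9f4f8b611040480e3fad566813dae43c140d0606641181098c6c38b0c703a649ac5e45629bcdcc4220b8d4c81d8e5847036b1c8631200ca7537954e25b3695ce65809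
def jA12 : ℕ := nat_lit 0x240406040125b399bce2572c954d80a010181caade5f9d196682fb50bcd5651a57c752a37db4592db60c8cf3cae8f0bb32b38b4d96d960e6c02b374c0d368989a06330b48aedc39304b8d770949787733b30cccd5e9d9c0532eb59daf57cbc5e4ea773d894e954a2956884f255369827b914a8e5522558874fa509ce551a403e14070943618110455a8653a3096e84d2645c451d8e0644118909fefd80425f50383412351e93c8e411c92ca627178a42e310f8644225168ac2a330e86c46371f9348a431d924a1fcfc80c21f70283c1460431990074391791142922838d488f5721446100d0641e240f055508b26b99389757a1162825323498e75024d3a965820d449128b89d8f47c3c1e6eb77bdcdcc535324381706898500b36b198471098802421619c0d8c71482818270e858d6c837b10feb440ac87c351e0dd6c7d230b4f6b8240ac922a3d2e48e2c5b9f07a361f8d100b33f2d4013397cca6b2e98cd2613a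
def jA13 : ℕ := nat_lit 0x4ea6f2d9ccae5f2e98cc267329acd2712a9b4b21b0c8542e25138743e29158844631198bc5a391d8dc6a4121924963d1f9148e53289349decf77c3e5e6f2773bde8f578bc1d4eb763b60d0784426010182c11fefe8140df4fb7e3f552a65228d50a752a89b2d860b00ea742e971c2e02c961a2d0349a1aad45eaf0f2783098188c5389c190c9369b1bede2b9599ece3399972b83e1f568b540a0132964a24d30974aa49d2e5723a1c6e77338912854222106874320962ad562c156af572a8a24d26140964f27129429e4e26d409f4ea6966b23f1fd6cb73d9e99acc32991badc2a9518ec6351ad86c2371bda6d25dae8ee762f97996ca31989b6da29949aed65faf8e6722d969228e4622d208f46a287e3e1e8f08a44188c08041249208e461c0e4743b168b0562a190cc8642178b86e361a8d050290683028150c06424130703c3a1c0804444230b858482510084341b0f07c4e260502c12040301c02080100c0a00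
def jA14 : ℕ := nat_lit 0x9416b14884e147e8dbfd64b87aadd2c1c133a02ede0840c28f90dc4556534b9c9ca5b99ae5b4203aabd205d2b3a6441a0fc25e2225b4d61c1e3ca341ad393044ce98992cdec1834b9248150cbf65e7f682321a23141d932d567ab6252a3416a3afa7195cdcba0b4a0bcc410c65866335305d892820311ef375ab8e2be64190cacb63824bedc6c989ac6b38330820737b8235309742c644b7f4c670528b339d47490aa85c851b120a2a0161e906a4260e0fa461b8addb008fcb52a73333526f15689e20cf22e228622a268b5503d50a0060827a4d13a3917a8a0e8e14bba2eac4a4799abf5db841e356035df6e780a4d92ca6c3080c4362b76288b8e39874057144c8808902c14a33238f10e9f5a12494a627a7002553000d7a021f801084e02164f89e4da9cd80e282d512813daa50ca34d220eeef13cae742478431b71887c203b2c91c41eefc94b7df1259b04a0527368d20ad29c8298c545e184b03b211008a3e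
noncomputable def jAs_1 (q : ℕ) : ℕ :=
  (@Bool.rec (fun _ => ℕ) jA1 jA0 (Nat.ble q (nat_lit 0)))
noncomputable def jAs_2 (q : ℕ) : ℕ :=
  (@Bool.rec (fun _ => ℕ) jA3 jA2 (Nat.ble q (nat_lit 2)))
noncomputable def jAs_3 (q : ℕ) : ℕ :=
  (@Bool.rec (fun _ => ℕ) jA5 jA4 (Nat.ble q (nat_lit 4)))
noncomputable def jAs_4 (q : ℕ) : ℕ :=
  (@Bool.rec (fun _ => ℕ) jA7 jA6 (Nat.ble q (nat_lit 6)))
noncomputable def jAs_5 (q : ℕ) : ℕ :=
  (@Bool.rec (fun _ => ℕ) jA9 jA8 (Nat.ble q (nat_lit 8)))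
noncomputable def jAs_6 (q : ℕ) : ℕ :=
  (@Bool.rec (fun _ => ℕ) jA11 jA10 (Nat.ble q (nat_lit 10)))
noncomputable def jAs_7 (q : ℕ) : ℕ :=
  (@Bool.rec (fun _ => ℕ) jA13 jA12 (Nat.ble q (nat_lit 12)))
noncomputable def jA (q : ℕ) : ℕ :=
  (@Bool.rec (fun _ => ℕ) (@Bool.rec (fun _ => ℕ) (@Bool.rec (fun _ => ℕ) jA14 (jAs_7 q) (Nat.ble q (nat_lit 13))) (@Bool.rec (fun _ => ℕ) (jAs_6 q) (jAs_5 q) (Nat.ble q (nat_lit 9))) (Nat.ble q (nat_lit 11))) (@Bool.rec (fun _ => ℕ) (@Bool.rec (fun _ => ℕ) (jAs_4 q) (jAs_3 q) (Nat.ble q (nat_lit 5))) (@Bool.rec (fun _ => ℕ) (jAs_2 q) (jAs_1 q) (Nat.ble q (nat_lit 1))) (Nat.ble q (nat_lit 3))) (Nat.ble q (nat_lit 7)))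
def wA : List ℕ := [nat_lit 1, nat_lit 0x2882229062090411146418482088a2, nat_lit 0x1483090611048320445090411148110483, nat_lit 0x28c83104811044520c83, nat_lit 0x41114831048310482088a320822, nat_lit
  0xa4088241902228481, nat_lit 0x2044120c8110481, nat_lit 0xc81104832044510481, nat_lit 0x1022288241902209061, nat_lit 0x1902209061, nat_lit 0x20c82088a209062090411144120c82, nat_lit
  0x22844120c82088a310482088a3, nat_lit 0x51882410445188241904111422, nat_lit 0x41844120c2410441, nat_lit 0x11422090620904111422]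
def wR : List ℕ := [nat_lit 1, nat_lit 361825, nat_lit 0x585eb0bccb7982b33d615bcc1585e6, nat_lit 0x2de1585eb305eb305e65bc2b33cc1, nat_lit 0x7856f0ac2f585e1, nat_lit 6, nat_lit 0x3cc1599eb0ade65982f,
  nat_lit 0x2de15bc2b7856f0ade1, nat_lit 0x3d617ac2f585eb0bd61, nat_lit 0x3d617acc17ac2b785667982b0bd66, nat_lit 11, nat_lit 0xbd61585eb0ade1, nat_lit 0xbd615bd61585e1, nat_lit
  0x3c2b0bd660bd660bccb785667982b, nat_lit 15]
def l0t_0 : T := (.node (.node (.node (.node (.node (.node (.node (.node .nil (nat_lit 0) (nat_lit 0) (nat_lit 0) .nil) (nat_lit 1) (nat_lit 458) (nat_lit 300) .nil) (nat_lit 2) (nat_lit 1740)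
  (nat_lit 313) (.node .nil (nat_lit 3) (nat_lit 1178) (nat_lit 298) .nil)) (nat_lit 4) (nat_lit 1242) (nat_lit 312) (.node (.node (.node .nil (nat_lit 5) (nat_lit 1754) (nat_lit 299) .nil) (nat_lit
  6) (nat_lit 1276) (nat_lit 312) .nil) (nat_lit 7) (nat_lit 1212) (nat_lit 298) (.node .nil (nat_lit 8) (nat_lit 282) (nat_lit 311) .nil))) (nat_lit 9) (nat_lit 43) (nat_lit 0) (.node (.node (.node
  (.node .nil (nat_lit 10) (nat_lit 581) (nat_lit 63) .nil) (nat_lit 11) (nat_lit 181) (nat_lit 62) .nil) (nat_lit 12) (nat_lit 694) (nat_lit 52) (.node .nil (nat_lit 13) (nat_lit 929) (nat_lit 39)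
  .nil)) (nat_lit 14) (nat_lit 731) (nat_lit 52) (.node (.node (.node .nil (nat_lit 15) (nat_lit 337) (nat_lit 37) .nil) (nat_lit 16) (nat_lit 1620) (nat_lit 129) .nil) (nat_lit 17) (nat_lit 1142)
  (nat_lit 123) (.node .nil (nat_lit 18) (nat_lit 946) (nat_lit 39) .nil)))) (nat_lit 19) (nat_lit 819) (nat_lit 11) (.node (.node (.node (.node (.node .nil (nat_lit 20) (nat_lit 1125) (nat_lit 123)
  .nil) (nat_lit 21) (nat_lit 1508) (nat_lit 180) .nil) (nat_lit 22) (nat_lit 660) (nat_lit 52) (.node .nil (nat_lit 23) (nat_lit 737) (nat_lit 29) .nil)) (nat_lit 24) (nat_lit 1637) (nat_lit 129)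
  (.node (.node (.node .nil (nat_lit 25) (nat_lit 1526) (nat_lit 180) .nil) (nat_lit 26) (nat_lit 2726) (nat_lit 126) .nil) (nat_lit 27) (nat_lit 2379) (nat_lit 72) (.node .nil (nat_lit 28) (nat_lit
  493) (nat_lit 300) .nil))) (nat_lit 29) (nat_lit 164) (nat_lit 62) (.node (.node (.node (.node .nil (nat_lit 30) (nat_lit 2085) (nat_lit 184) .nil) (nat_lit 31) (nat_lit 1545) (nat_lit 180) .nil)
  (nat_lit 32) (nat_lit 2163) (nat_lit 40) (.node .nil (nat_lit 33) (nat_lit 2242) (nat_lit 12) .nil)) (nat_lit 34) (nat_lit 1654) (nat_lit 185) (.node (.node (.node .nil (nat_lit 35) (nat_lit 2102)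
  (nat_lit 184) .nil) (nat_lit 36) (nat_lit 320) (nat_lit 37) .nil) (nat_lit 37) (nat_lit 93) (nat_lit 314) (.node .nil (nat_lit 38) (nat_lit 598) (nat_lit 63) .nil))))) (nat_lit 39) (nat_lit 198)
  (nat_lit 62) (.node (.node (.node (.node (.node (.node .nil (nat_lit 40) (nat_lit 677) (nat_lit 52) .nil) (nat_lit 41) (nat_lit 801) (nat_lit 11) .nil) (nat_lit 42) (nat_lit 2117) (nat_lit 22)
  (.node .nil (nat_lit 43) (nat_lit 2180) (nat_lit 40) .nil)) (nat_lit 44) (nat_lit 964) (nat_lit 39) (.node (.node (.node .nil (nat_lit 45) (nat_lit 774) (nat_lit 29) .nil) (nat_lit 46) (nat_lit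
  1676) (nat_lit 185) .nil) (nat_lit 47) (nat_lit 410) (nat_lit 37) (.node .nil (nat_lit 48) (nat_lit 550) (nat_lit 198) .nil))) (nat_lit 49) (nat_lit 1814) (nat_lit 199) (.node (.node (.node (.node
  .nil (nat_lit 50) (nat_lit 1682) (nat_lit 47) .nil) (nat_lit 51) (nat_lit 533) (nat_lit 198) .nil) (nat_lit 52) (nat_lit 145) (nat_lit 62) (.node .nil (nat_lit 53) (nat_lit 561) (nat_lit 63) .nil))
  (nat_lit 54) (nat_lit 2198) (nat_lit 40) (.node (.node (.node .nil (nat_lit 55) (nat_lit 2277) (nat_lit 12) .nil) (nat_lit 56) (nat_lit 1843) (nat_lit 51) .nil) (nat_lit 57) (nat_lit 1922) (nat_lit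
  48) (.node .nil (nat_lit 58) (nat_lit 2918) (nat_lit 112) .nil)))) (nat_lit 59) (nat_lit 2555) (nat_lit 19) (.node (.node (.node (.node (.node .nil (nat_lit 60) (nat_lit 854) (nat_lit 11) .nil)
  (nat_lit 61) (nat_lit 981) (nat_lit 39) .nil) (nat_lit 62) (nat_lit 61) (nat_lit 0) (.node .nil (nat_lit 63) (nat_lit 128) (nat_lit 62) .nil)) (nat_lit 64) (nat_lit 907) (nat_lit 11) (.node (.node
  (.node .nil (nat_lit 65) (nat_lit 1564) (nat_lit 180) .nil) (nat_lit 66) (nat_lit 1905) (nat_lit 48) .nil) (nat_lit 67) (nat_lit 1830) (nat_lit 108) (.node .nil (nat_lit 68) (nat_lit 1434) (nat_lit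
  36) .nil))) (nat_lit 69) (nat_lit 1482) (nat_lit 15) (.node (.node (.node (.node .nil (nat_lit 70) (nat_lit 2260) (nat_lit 12) .nil) (nat_lit 71) (nat_lit 2134) (nat_lit 22) .nil) (nat_lit 72)
  (nat_lit 757) (nat_lit 29) (.node .nil (nat_lit 73) (nat_lit 836) (nat_lit 11) .nil)) (nat_lit 74) (nat_lit 2589) (nat_lit 73) (.node (.node .nil (nat_lit 75) (nat_lit 1581) (nat_lit 180) .nil)
  (nat_lit 76) (nat_lit 4697) (nat_lit 74) (.node .nil (nat_lit 77) (nat_lit 3801) (nat_lit 75) .nil)))))) (nat_lit 78) (nat_lit 2621) (nat_lit 60) (.node (.node (.node (.node (.node (.node (.node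
  .nil (nat_lit 79) (nat_lit 3634) (nat_lit 163) .nil) (nat_lit 80) (nat_lit 1901) (nat_lit 51) .nil) (nat_lit 81) (nat_lit 3554) (nat_lit 165) (.node .nil (nat_lit 82) (nat_lit 5030) (nat_lit 288)
  .nil)) (nat_lit 83) (nat_lit 4954) (nat_lit 118) (.node (.node (.node .nil (nat_lit 84) (nat_lit 1357) (nat_lit 8) .nil) (nat_lit 85) (nat_lit 2153) (nat_lit 22) .nil) (nat_lit 86) (nat_lit 2409)
  (nat_lit 45) (.node .nil (nat_lit 87) (nat_lit 2793) (nat_lit 44) .nil))) (nat_lit 88) (nat_lit 3853) (nat_lit 5) (.node (.node (.node (.node .nil (nat_lit 89) (nat_lit 4941) (nat_lit 58) .nil)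
  (nat_lit 90) (nat_lit 4788) (nat_lit 261) .nil) (nat_lit 91) (nat_lit 4548) (nat_lit 260) (.node .nil (nat_lit 92) (nat_lit 4339) (nat_lit 206) .nil)) (nat_lit 93) (nat_lit 3162) (nat_lit 204)
  (.node (.node (.node .nil (nat_lit 94) (nat_lit 2835) (nat_lit 221) .nil) (nat_lit 95) (nat_lit 3029) (nat_lit 254) .nil) (nat_lit 96) (nat_lit 3869) (nat_lit 67) (.node .nil (nat_lit 97) (nat_lit
  3421) (nat_lit 6) .nil)))) (nat_lit 98) (nat_lit 4727) (nat_lit 215) (.node (.node (.node (.node (.node .nil (nat_lit 99) (nat_lit 4026) (nat_lit 220) .nil) (nat_lit 100) (nat_lit 1977) (nat_lit 10)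
  .nil) (nat_lit 101) (nat_lit 873) (nat_lit 11) (.node .nil (nat_lit 102) (nat_lit 3089) (nat_lit 204) .nil)) (nat_lit 103) (nat_lit 2486) (nat_lit 296) (.node (.node (.node .nil (nat_lit 104)
  (nat_lit 5019) (nat_lit 139) .nil) (nat_lit 105) (nat_lit 4761) (nat_lit 271) .nil) (nat_lit 106) (nat_lit 1878) (nat_lit 51) (.node .nil (nat_lit 107) (nat_lit 890) (nat_lit 11) .nil))) (nat_lit
  108) (nat_lit 513) (nat_lit 198) (.node (.node (.node (.node .nil (nat_lit 109) (nat_lit 652) (nat_lit 63) .nil) (nat_lit 110) (nat_lit 2538) (nat_lit 19) .nil) (nat_lit 111) (nat_lit 3702) (nat_lit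
  69) (.node .nil (nat_lit 112) (nat_lit 1018) (nat_lit 39) .nil)) (nat_lit 113) (nat_lit 1860) (nat_lit 51) (.node (.node (.node .nil (nat_lit 114) (nat_lit 4516) (nat_lit 238) .nil) (nat_lit 115)
  (nat_lit 4164) (nat_lit 239) .nil) (nat_lit 116) (nat_lit 4978) (nat_lit 102) (.node .nil (nat_lit 117) (nat_lit 4594) (nat_lit 103) .nil))))) (nat_lit 118) (nat_lit 2981) (nat_lit 244) (.node
  (.node (.node (.node (.node (.node .nil (nat_lit 119) (nat_lit 2322) (nat_lit 223) .nil) (nat_lit 120) (nat_lit 4182) (nat_lit 239) .nil) (nat_lit 121) (nat_lit 3946) (nat_lit 100) (.node .nil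
  (nat_lit 122) (nat_lit 1088) (nat_lit 123) .nil)) (nat_lit 123) (nat_lit 234) (nat_lit 62) (.node (.node (.node .nil (nat_lit 124) (nat_lit 1602) (nat_lit 129) .nil) (nat_lit 125) (nat_lit 1491)
  (nat_lit 180) .nil) (nat_lit 126) (nat_lit 924) (nat_lit 11) (.node .nil (nat_lit 127) (nat_lit 1445) (nat_lit 15) .nil))) (nat_lit 128) (nat_lit 1414) (nat_lit 36) (.node (.node (.node (.node .nil
  (nat_lit 129) (nat_lit 374) (nat_lit 37) .nil) (nat_lit 130) (nat_lit 3523) (nat_lit 162) .nil) (nat_lit 131) (nat_lit 3571) (nat_lit 165) (.node .nil (nat_lit 132) (nat_lit 2829) (nat_lit 61)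
  .nil)) (nat_lit 133) (nat_lit 4448) (nat_lit 134) (.node (.node (.node .nil (nat_lit 134) (nat_lit 2445) (nat_lit 45) .nil) (nat_lit 135) (nat_lit 3445) (nat_lit 177) .nil) (nat_lit 136) (nat_lit
  4044) (nat_lit 220) (.node .nil (nat_lit 137) (nat_lit 3083) (nat_lit 254) .nil)))) (nat_lit 138) (nat_lit 1337) (nat_lit 8) (.node (.node (.node (.node (.node .nil (nat_lit 139) (nat_lit 3542)
  (nat_lit 162) .nil) (nat_lit 140) (nat_lit 3653) (nat_lit 163) .nil) (nat_lit 141) (nat_lit 3401) (nat_lit 6) (.node .nil (nat_lit 142) (nat_lit 3205) (nat_lit 169) .nil)) (nat_lit 143) (nat_lit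
  3385) (nat_lit 4) (.node (.node (.node .nil (nat_lit 144) (nat_lit 3222) (nat_lit 169) .nil) (nat_lit 145) (nat_lit 317) (nat_lit 311) .nil) (nat_lit 146) (nat_lit 4827) (nat_lit 273) (.node .nil
  (nat_lit 147) (nat_lit 4202) (nat_lit 239) .nil))) (nat_lit 148) (nat_lit 4380) (nat_lit 206) (.node (.node (.node (.node .nil (nat_lit 149) (nat_lit 4773) (nat_lit 156) .nil) (nat_lit 150) (nat_lit
  3293) (nat_lit 301) .nil) (nat_lit 151) (nat_lit 3980) (nat_lit 100) (.node .nil (nat_lit 152) (nat_lit 3002) (nat_lit 244) .nil)) (nat_lit 153) (nat_lit 3465) (nat_lit 177) (.node (.node .nil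
  (nat_lit 154) (nat_lit 4125) (nat_lit 43) .nil) (nat_lit 155) (nat_lit 4074) (nat_lit 245) (.node .nil (nat_lit 156) (nat_lit 2716) (nat_lit 101) .nil)))))))
def l0t_1 : T := (.node (.node (.node (.node (.node (.node (.node (.node .nil (nat_lit 158) (nat_lit 3885) (nat_lit 56) .nil) (nat_lit 159) (nat_lit 4668) (nat_lit 207) .nil) (nat_lit 160) (nat_lit
  4538) (nat_lit 238) (.node .nil (nat_lit 161) (nat_lit 4489) (nat_lit 134) .nil)) (nat_lit 162) (nat_lit 1369) (nat_lit 307) (.node (.node (.node .nil (nat_lit 163) (nat_lit 1398) (nat_lit 145)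
  .nil) (nat_lit 164) (nat_lit 3497) (nat_lit 308) .nil) (nat_lit 165) (nat_lit 1381) (nat_lit 145) (.node .nil (nat_lit 166) (nat_lit 2397) (nat_lit 72) .nil))) (nat_lit 167) (nat_lit 3305) (nat_lit
  303) (.node (.node (.node (.node .nil (nat_lit 168) (nat_lit 3510) (nat_lit 138) .nil) (nat_lit 169) (nat_lit 1082) (nat_lit 282) .nil) (nat_lit 170) (nat_lit 3424) (nat_lit 177) (.node .nil
  (nat_lit 171) (nat_lit 2908) (nat_lit 221) .nil)) (nat_lit 172) (nat_lit 4849) (nat_lit 132) (.node (.node (.node .nil (nat_lit 173) (nat_lit 4253) (nat_lit 234) .nil) (nat_lit 174) (nat_lit 4397)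
  (nat_lit 206) .nil) (nat_lit 175) (nat_lit 4651) (nat_lit 256) (.node .nil (nat_lit 176) (nat_lit 4469) (nat_lit 134) .nil)))) (nat_lit 177) (nat_lit 1293) (nat_lit 312) (.node (.node (.node (.node
  (.node .nil (nat_lit 178) (nat_lit 1462) (nat_lit 15) .nil) (nat_lit 179) (nat_lit 1585) (nat_lit 129) .nil) (nat_lit 180) (nat_lit 357) (nat_lit 37) (.node .nil (nat_lit 181) (nat_lit 1106)
  (nat_lit 123) .nil)) (nat_lit 182) (nat_lit 3253) (nat_lit 17) (.node (.node (.node .nil (nat_lit 183) (nat_lit 2426) (nat_lit 45) .nil) (nat_lit 184) (nat_lit 634) (nat_lit 63) .nil) (nat_lit 185)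
  (nat_lit 393) (nat_lit 37) (.node .nil (nat_lit 186) (nat_lit 2682) (nat_lit 101) .nil))) (nat_lit 187) (nat_lit 4002) (nat_lit 220) (.node (.node (.node (.node .nil (nat_lit 188) (nat_lit 3325)
  (nat_lit 7) .nil) (nat_lit 189) (nat_lit 3757) (nat_lit 65) .nil) (nat_lit 190) (nat_lit 3106) (nat_lit 204) (.node .nil (nat_lit 191) (nat_lit 2941) (nat_lit 112) .nil)) (nat_lit 192) (nat_lit
  2626) (nat_lit 101) (.node (.node (.node .nil (nat_lit 193) (nat_lit 2964) (nat_lit 244) .nil) (nat_lit 194) (nat_lit 2762) (nat_lit 13) .nil) (nat_lit 195) (nat_lit 2026) (nat_lit 38) (.node .nil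
  (nat_lit 196) (nat_lit 1702) (nat_lit 47) .nil))))) (nat_lit 197) (nat_lit 1940) (nat_lit 48) (.node (.node (.node (.node (.node (.node .nil (nat_lit 198) (nat_lit 125) (nat_lit 9) .nil) (nat_lit
  199) (nat_lit 496) (nat_lit 198) .nil) (nat_lit 200) (nat_lit 1994) (nat_lit 10) (.node .nil (nat_lit 201) (nat_lit 2522) (nat_lit 41) .nil)) (nat_lit 202) (nat_lit 3997) (nat_lit 100) (.node (.node
  (.node .nil (nat_lit 203) (nat_lit 3691) (nat_lit 163) .nil) (nat_lit 204) (nat_lit 1062) (nat_lit 282) .nil) (nat_lit 205) (nat_lit 2070) (nat_lit 283) (.node .nil (nat_lit 206) (nat_lit 2361)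
  (nat_lit 72) .nil))) (nat_lit 207) (nat_lit 2569) (nat_lit 73) (.node (.node (.node (.node .nil (nat_lit 208) (nat_lit 2874) (nat_lit 221) .nil) (nat_lit 209) (nat_lit 4426) (nat_lit 86) .nil)
  (nat_lit 210) (nat_lit 2317) (nat_lit 12) (.node .nil (nat_lit 211) (nat_lit 3907) (nat_lit 222) .nil)) (nat_lit 212) (nat_lit 4565) (nat_lit 260) (.node (.node (.node .nil (nat_lit 213) (nat_lit
  3611) (nat_lit 165) .nil) (nat_lit 214) (nat_lit 3923) (nat_lit 100) .nil) (nat_lit 215) (nat_lit 2643) (nat_lit 101) (.node .nil (nat_lit 216) (nat_lit 3012) (nat_lit 254) .nil)))) (nat_lit 217)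
  (nat_lit 4061) (nat_lit 195) (.node (.node (.node (.node (.node .nil (nat_lit 218) (nat_lit 4297) (nat_lit 210) .nil) (nat_lit 219) (nat_lit 4221) (nat_lit 33) .nil) (nat_lit 220) (nat_lit 2009)
  (nat_lit 38) (.node .nil (nat_lit 221) (nat_lit 1001) (nat_lit 39) .nil)) (nat_lit 222) (nat_lit 1961) (nat_lit 53) (.node (.node (.node .nil (nat_lit 223) (nat_lit 713) (nat_lit 52) .nil) (nat_lit
  224) (nat_lit 4330) (nat_lit 119) .nil) (nat_lit 225) (nat_lit 4585) (nat_lit 260) (.node .nil (nat_lit 226) (nat_lit 3764) (nat_lit 75) .nil))) (nat_lit 227) (nat_lit 3328) (nat_lit 232) (.node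
  (.node (.node (.node .nil (nat_lit 228) (nat_lit 3353) (nat_lit 232) .nil) (nat_lit 229) (nat_lit 3196) (nat_lit 204) .nil) (nat_lit 230) (nat_lit 3782) (nat_lit 75) (.node .nil (nat_lit 231)
  (nat_lit 4678) (nat_lit 74) .nil)) (nat_lit 232) (nat_lit 1229) (nat_lit 298) (.node (.node .nil (nat_lit 233) (nat_lit 3066) (nat_lit 254) .nil) (nat_lit 234) (nat_lit 2297) (nat_lit 12) (.node
  .nil (nat_lit 235) (nat_lit 2745) (nat_lit 13) .nil)))))) (nat_lit 236) (nat_lit 4966) (nat_lit 216) (.node (.node (.node (.node (.node (.node (.node .nil (nat_lit 237) (nat_lit 4260) (nat_lit 210)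
  .nil) (nat_lit 238) (nat_lit 2450) (nat_lit 296) .nil) (nat_lit 239) (nat_lit 2237) (nat_lit 40) (.node .nil (nat_lit 240) (nat_lit 4091) (nat_lit 205) .nil)) (nat_lit 241) (nat_lit 5003) (nat_lit
  102) (.node (.node (.node .nil (nat_lit 242) (nat_lit 3179) (nat_lit 204) .nil) (nat_lit 243) (nat_lit 4619) (nat_lit 103) .nil) (nat_lit 244) (nat_lit 1026) (nat_lit 282) (.node .nil (nat_lit 245)
  (nat_lit 2034) (nat_lit 283) .nil))) (nat_lit 246) (nat_lit 4709) (nat_lit 215) (.node (.node (.node (.node .nil (nat_lit 247) (nat_lit 3741) (nat_lit 25) .nil) (nat_lit 248) (nat_lit 3141) (nat_lit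
  204) .nil) (nat_lit 249) (nat_lit 2662) (nat_lit 101) (.node .nil (nat_lit 250) (nat_lit 3898) (nat_lit 80) .nil)) (nat_lit 251) (nat_lit 4918) (nat_lit 208) (.node (.node (.node .nil (nat_lit 252)
  (nat_lit 3837) (nat_lit 24) .nil) (nat_lit 253) (nat_lit 4811) (nat_lit 87) .nil) (nat_lit 254) (nat_lit 1043) (nat_lit 282) (.node .nil (nat_lit 255) (nat_lit 2051) (nat_lit 283) .nil)))) (nat_lit
  256) (nat_lit 2505) (nat_lit 41) (.node (.node (.node (.node (.node .nil (nat_lit 257) (nat_lit 2217) (nat_lit 40) .nil) (nat_lit 258) (nat_lit 3277) (nat_lit 17) .nil) (nat_lit 259) (nat_lit 2854)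
  (nat_lit 221) (.node .nil (nat_lit 260) (nat_lit 2467) (nat_lit 296) .nil)) (nat_lit 261) (nat_lit 2781) (nat_lit 13) (.node (.node (.node .nil (nat_lit 262) (nat_lit 2891) (nat_lit 221) .nil)
  (nat_lit 263) (nat_lit 4443) (nat_lit 86) .nil) (nat_lit 264) (nat_lit 3370) (nat_lit 232) (.node .nil (nat_lit 265) (nat_lit 3818) (nat_lit 75) .nil))) (nat_lit 266) (nat_lit 3049) (nat_lit 254)
  (.node (.node (.node (.node .nil (nat_lit 267) (nat_lit 2947) (nat_lit 244) .nil) (nat_lit 268) (nat_lit 3482) (nat_lit 177) .nil) (nat_lit 269) (nat_lit 4898) (nat_lit 259) (.node .nil (nat_lit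
  270) (nat_lit 4363) (nat_lit 206) .nil)) (nat_lit 271) (nat_lit 2699) (nat_lit 101) (.node (.node (.node .nil (nat_lit 272) (nat_lit 2601) (nat_lit 60) .nil) (nat_lit 273) (nat_lit 2809) (nat_lit
  61) .nil) (nat_lit 274) (nat_lit 2342) (nat_lit 223) (.node .nil (nat_lit 275) (nat_lit 3124) (nat_lit 204) .nil))))) (nat_lit 276) (nat_lit 4277) (nat_lit 210) (.node (.node (.node (.node (.node
  (.node .nil (nat_lit 277) (nat_lit 3963) (nat_lit 100) .nil) (nat_lit 278) (nat_lit 4308) (nat_lit 119) .nil) (nat_lit 279) (nat_lit 4130) (nat_lit 257) (.node .nil (nat_lit 280) (nat_lit 4109)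
  (nat_lit 32) .nil)) (nat_lit 281) (nat_lit 4499) (nat_lit 238) (.node (.node (.node .nil (nat_lit 282) (nat_lit 217) (nat_lit 62) .nil) (nat_lit 283) (nat_lit 617) (nat_lit 63) .nil) (nat_lit 284)
  (nat_lit 4147) (nat_lit 257) (.node .nil (nat_lit 285) (nat_lit 4627) (nat_lit 256) .nil))) (nat_lit 286) (nat_lit 3594) (nat_lit 165) (.node (.node (.node (.node .nil (nat_lit 287) (nat_lit 4226)
  (nat_lit 234) .nil) (nat_lit 288) (nat_lit 3628) (nat_lit 165) .nil) (nat_lit 289) (nat_lit 4891) (nat_lit 94) (.node .nil (nat_lit 290) (nat_lit 4845) (nat_lit 273) .nil)) (nat_lit 291) (nat_lit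
  4413) (nat_lit 27) (.node (.node (.node .nil (nat_lit 292) (nat_lit 4738) (nat_lit 249) .nil) (nat_lit 293) (nat_lit 3245) (nat_lit 20) .nil) (nat_lit 294) (nat_lit 4868) (nat_lit 94) (.node .nil
  (nat_lit 295) (nat_lit 3674) (nat_lit 163) .nil)))) (nat_lit 296) (nat_lit 793) (nat_lit 29) (.node (.node (.node (.node (.node .nil (nat_lit 297) (nat_lit 1801) (nat_lit 28) .nil) (nat_lit 298)
  (nat_lit 242) (nat_lit 311) .nil) (nat_lit 299) (nat_lit 435) (nat_lit 300) (.node .nil (nat_lit 300) (nat_lit 105) (nat_lit 9) .nil)) (nat_lit 301) (nat_lit 1155) (nat_lit 298) (.node (.node (.node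
  .nil (nat_lit 302) (nat_lit 1781) (nat_lit 1) .nil) (nat_lit 303) (nat_lit 1195) (nat_lit 298) .nil) (nat_lit 304) (nat_lit 475) (nat_lit 300) (.node .nil (nat_lit 305) (nat_lit 1771) (nat_lit 299)
  .nil))) (nat_lit 306) (nat_lit 1259) (nat_lit 312) (.node (.node (.node (.node .nil (nat_lit 307) (nat_lit 299) (nat_lit 311) .nil) (nat_lit 308) (nat_lit 1318) (nat_lit 8) .nil) (nat_lit 309)
  (nat_lit 1301) (nat_lit 8) (.node .nil (nat_lit 310) (nat_lit 1715) (nat_lit 313) .nil)) (nat_lit 311) (nat_lit 73) (nat_lit 314) (.node (.node .nil (nat_lit 312) (nat_lit 259) (nat_lit 311) .nil)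
  (nat_lit 313) (nat_lit 418) (nat_lit 300) (.node .nil (nat_lit 314) (nat_lit 26) (nat_lit 0) .nil)))))))
def l0t : T := (.node l0t_0 (nat_lit 157) (nat_lit 3725) (nat_lit 125) l0t_1)
def l0 : Lvl := ⟨nat_lit 0, [nat_lit 1, nat_lit 2, nat_lit 3, nat_lit 4, nat_lit 5, nat_lit 6, nat_lit 7, nat_lit 8, nat_lit 9, nat_lit 10, nat_lit 11, nat_lit 12, nat_lit 13, nat_lit 15], [], l0t⟩
def l1t : T := (.node (.node (.node (.node (.node (.node (.node (.node .nil (nat_lit 10) (nat_lit 0) (nat_lit 10) .nil) (nat_lit 11) (nat_lit 16) (nat_lit 10) .nil) (nat_lit 12) (nat_lit 695) (nat_lit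
  41) (.node (.node .nil (nat_lit 13) (nat_lit 375) (nat_lit 40) .nil) (nat_lit 18) (nat_lit 67) (nat_lit 10) .nil)) (nat_lit 19) (nat_lit 195) (nat_lit 11) (.node (.node (.node .nil (nat_lit 22)
  (nat_lit 674) (nat_lit 41) .nil) (nat_lit 23) (nat_lit 290) (nat_lit 40) .nil) (nat_lit 28) (nat_lit 178) (nat_lit 11) (.node .nil (nat_lit 29) (nat_lit 50) (nat_lit 10) .nil))) (nat_lit 32)
  (nat_lit 307) (nat_lit 40) (.node (.node (.node (.node .nil (nat_lit 33) (nat_lit 486) (nat_lit 72) .nil) (nat_lit 38) (nat_lit 263) (nat_lit 11) .nil) (nat_lit 39) (nat_lit 135) (nat_lit 10) (.node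
  .nil (nat_lit 40) (nat_lit 33) (nat_lit 10) .nil)) (nat_lit 41) (nat_lit 161) (nat_lit 11) (.node (.node (.node .nil (nat_lit 42) (nat_lit 454) (nat_lit 18) .nil) (nat_lit 43) (nat_lit 324) (nat_lit
  40) .nil) (nat_lit 44) (nat_lit 503) (nat_lit 72) (.node .nil (nat_lit 45) (nat_lit 406) (nat_lit 29) .nil)))) (nat_lit 52) (nat_lit 341) (nat_lit 40) (.node (.node (.node (.node (.node .nil
  (nat_lit 53) (nat_lit 529) (nat_lit 63) .nil) (nat_lit 54) (nat_lit 358) (nat_lit 40) .nil) (nat_lit 55) (nat_lit 561) (nat_lit 61) (.node .nil (nat_lit 60) (nat_lit 246) (nat_lit 11) .nil))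
  (nat_lit 61) (nat_lit 118) (nat_lit 10) (.node (.node (.node .nil (nat_lit 62) (nat_lit 229) (nat_lit 11) .nil) (nat_lit 63) (nat_lit 101) (nat_lit 10) .nil) (nat_lit 70) (nat_lit 437) (nat_lit 18)
  (.node .nil (nat_lit 71) (nat_lit 584) (nat_lit 61) .nil))) (nat_lit 72) (nat_lit 84) (nat_lit 10) (.node (.node (.node (.node .nil (nat_lit 73) (nat_lit 212) (nat_lit 11) .nil) (nat_lit 82)
  (nat_lit 2200) (nat_lit 115) .nil) (nat_lit 83) (nat_lit 2472) (nat_lit 114) (.node .nil (nat_lit 84) (nat_lit 873) (nat_lit 23) .nil)) (nat_lit 85) (nat_lit 1254) (nat_lit 273) (.node (.node (.node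
  .nil (nat_lit 86) (nat_lit 998) (nat_lit 257) .nil) (nat_lit 87) (nat_lit 1129) (nat_lit 44) .nil) (nat_lit 88) (nat_lit 2499) (nat_lit 188) (.node .nil (nat_lit 89) (nat_lit 2521) (nat_lit 236)
  .nil))))) (nat_lit 90) (nat_lit 1843) (nat_lit 102) (.node (.node (.node (.node (.node (.node .nil (nat_lit 91) (nat_lit 1973) (nat_lit 284) .nil) (nat_lit 92) (nat_lit 1155) (nat_lit 206) .nil)
  (nat_lit 93) (nat_lit 1555) (nat_lit 207) (.node .nil (nat_lit 94) (nat_lit 1283) (nat_lit 221) .nil)) (nat_lit 95) (nat_lit 1619) (nat_lit 220) (.node (.node (.node .nil (nat_lit 96) (nat_lit 2324)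
  (nat_lit 246) .nil) (nat_lit 97) (nat_lit 1715) (nat_lit 84) .nil) (nat_lit 98) (nat_lit 1671) (nat_lit 215) (.node .nil (nat_lit 99) (nat_lit 1415) (nat_lit 214) .nil))) (nat_lit 100) (nat_lit 153)
  (nat_lit 10) (.node (.node (.node (.node .nil (nat_lit 101) (nat_lit 281) (nat_lit 11) .nil) (nat_lit 102) (nat_lit 937) (nat_lit 54) .nil) (nat_lit 103) (nat_lit 1046) (nat_lit 296) (.node .nil
  (nat_lit 104) (nat_lit 2179) (nat_lit 115) .nil)) (nat_lit 105) (nat_lit 2441) (nat_lit 271) (.node (.node (.node .nil (nat_lit 114) (nat_lit 1538) (nat_lit 207) .nil) (nat_lit 115) (nat_lit 1138)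
  (nat_lit 206) .nil) (nat_lit 116) (nat_lit 1826) (nat_lit 102) (.node .nil (nat_lit 117) (nat_lit 2066) (nat_lit 103) .nil)))) (nat_lit 118) (nat_lit 1908) (nat_lit 279) (.node (.node (.node (.node
  (.node .nil (nat_lit 119) (nat_lit 1794) (nat_lit 223) .nil) (nat_lit 120) (nat_lit 2162) (nat_lit 87) .nil) (nat_lit 121) (nat_lit 2018) (nat_lit 86) (.node .nil (nat_lit 186) (nat_lit 1266)
  (nat_lit 221) .nil)) (nat_lit 187) (nat_lit 1602) (nat_lit 220) (.node (.node (.node .nil (nat_lit 188) (nat_lit 1698) (nat_lit 84) .nil) (nat_lit 189) (nat_lit 1945) (nat_lit 279) .nil) (nat_lit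
  190) (nat_lit 1074) (nat_lit 204) (.node .nil (nat_lit 191) (nat_lit 1506) (nat_lit 205) .nil))) (nat_lit 192) (nat_lit 818) (nat_lit 101) (.node (.node (.node (.node .nil (nat_lit 193) (nat_lit
  626) (nat_lit 100) .nil) (nat_lit 202) (nat_lit 1299) (nat_lit 193) .nil) (nat_lit 203) (nat_lit 1433) (nat_lit 214) (.node .nil (nat_lit 204) (nat_lit 473) (nat_lit 18) .nil)) (nat_lit 205)
  (nat_lit 745) (nat_lit 19) (.node (.node (.node .nil (nat_lit 206) (nat_lit 521) (nat_lit 72) .nil) (nat_lit 207) (nat_lit 761) (nat_lit 73) .nil) (nat_lit 208) (nat_lit 2487) (nat_lit 93) (.node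
  .nil (nat_lit 209) (nat_lit 2215) (nat_lit 92) .nil)))))) (nat_lit 210) (nat_lit 1811) (nat_lit 223) (.node (.node (.node (.node (.node (.node (.node .nil (nat_lit 211) (nat_lit 2243) (nat_lit 222)
  .nil) (nat_lit 212) (nat_lit 2053) (nat_lit 260) .nil) (nat_lit 213) (nat_lit 1956) (nat_lit 284) (.node .nil (nat_lit 214) (nat_lit 643) (nat_lit 100) .nil)) (nat_lit 215) (nat_lit 835) (nat_lit
  101) (.node (.node (.node .nil (nat_lit 216) (nat_lit 1091) (nat_lit 204) .nil) (nat_lit 217) (nat_lit 1523) (nat_lit 205) .nil) (nat_lit 218) (nat_lit 2553) (nat_lit 210) (.node .nil (nat_lit 219)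
  (nat_lit 2531) (nat_lit 119) .nil))) (nat_lit 220) (nat_lit 809) (nat_lit 38) (.node (.node (.node (.node .nil (nat_lit 221) (nat_lit 617) (nat_lit 39) .nil) (nat_lit 222) (nat_lit 1177) (nat_lit
  53) .nil) (nat_lit 223) (nat_lit 921) (nat_lit 52) (.node .nil (nat_lit 224) (nat_lit 1352) (nat_lit 193) .nil)) (nat_lit 225) (nat_lit 1640) (nat_lit 192) (.node (.node (.node .nil (nat_lit 234)
  (nat_lit 1441) (nat_lit 248) .nil) (nat_lit 235) (nat_lit 953) (nat_lit 13) .nil) (nat_lit 236) (nat_lit 1747) (nat_lit 275) (.node .nil (nat_lit 237) (nat_lit 2147) (nat_lit 274) .nil)))) (nat_lit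
  238) (nat_lit 1010) (nat_lit 296) (.node (.node (.node (.node (.node .nil (nat_lit 239) (nat_lit 1369) (nat_lit 193) .nil) (nat_lit 240) (nat_lit 2389) (nat_lit 224) .nil) (nat_lit 241) (nat_lit
  2312) (nat_lit 253) (.node .nil (nat_lit 242) (nat_lit 2009) (nat_lit 284) .nil)) (nat_lit 243) (nat_lit 1891) (nat_lit 279) (.node (.node (.node .nil (nat_lit 244) (nat_lit 1316) (nat_lit 193)
  .nil) (nat_lit 245) (nat_lit 1186) (nat_lit 283) .nil) (nat_lit 246) (nat_lit 1235) (nat_lit 273) (.node .nil (nat_lit 247) (nat_lit 1397) (nat_lit 214) .nil))) (nat_lit 248) (nat_lit 662) (nat_lit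
  100) (.node (.node (.node (.node .nil (nat_lit 249) (nat_lit 854) (nat_lit 101) .nil) (nat_lit 250) (nat_lit 2376) (nat_lit 278) .nil) (nat_lit 251) (nat_lit 1928) (nat_lit 279) (.node .nil (nat_lit
  252) (nat_lit 1586) (nat_lit 272) .nil)) (nat_lit 253) (nat_lit 1218) (nat_lit 273) (.node (.node (.node .nil (nat_lit 254) (nat_lit 1571) (nat_lit 282) .nil) (nat_lit 255) (nat_lit 1203) (nat_lit
  283) .nil) (nat_lit 256) (nat_lit 713) (nat_lit 41) (.node .nil (nat_lit 257) (nat_lit 393) (nat_lit 40) .nil))))) (nat_lit 258) (nat_lit 1065) (nat_lit 42) (.node (.node (.node (.node (.node (.node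
  .nil (nat_lit 259) (nat_lit 905) (nat_lit 43) .nil) (nat_lit 260) (nat_lit 1027) (nat_lit 296) .nil) (nat_lit 261) (nat_lit 1491) (nat_lit 297) (.node .nil (nat_lit 262) (nat_lit 2117) (nat_lit 190)
  .nil)) (nat_lit 263) (nat_lit 1730) (nat_lit 275) (.node (.node (.node .nil (nat_lit 264) (nat_lit 2418) (nat_lit 271) .nil) (nat_lit 265) (nat_lit 2343) (nat_lit 246) .nil) (nat_lit 266) (nat_lit
  2259) (nat_lit 245) (.node .nil (nat_lit 267) (nat_lit 2281) (nat_lit 255) .nil))) (nat_lit 268) (nat_lit 2082) (nat_lit 258) (.node (.node (.node (.node .nil (nat_lit 269) (nat_lit 1762) (nat_lit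
  259) .nil) (nat_lit 270) (nat_lit 1652) (nat_lit 215) .nil) (nat_lit 271) (nat_lit 1380) (nat_lit 214) (.node .nil (nat_lit 272) (nat_lit 793) (nat_lit 60) .nil)) (nat_lit 273) (nat_lit 601)
  (nat_lit 61) (.node (.node (.node .nil (nat_lit 274) (nat_lit 1113) (nat_lit 33) .nil) (nat_lit 275) (nat_lit 889) (nat_lit 32) .nil) (nat_lit 276) (nat_lit 1875) (nat_lit 235) (.node .nil (nat_lit
  277) (nat_lit 2401) (nat_lit 271) .nil)))) (nat_lit 278) (nat_lit 1333) (nat_lit 193) (.node (.node (.node (.node (.node .nil (nat_lit 279) (nat_lit 962) (nat_lit 257) .nil) (nat_lit 280) (nat_lit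
  2137) (nat_lit 216) .nil) (nat_lit 281) (nat_lit 2035) (nat_lit 238) (.node .nil (nat_lit 282) (nat_lit 777) (nat_lit 62) .nil)) (nat_lit 283) (nat_lit 553) (nat_lit 63) (.node (.node (.node .nil
  (nat_lit 284) (nat_lit 979) (nat_lit 257) .nil) (nat_lit 285) (nat_lit 1475) (nat_lit 256) .nil) (nat_lit 286) (nat_lit 1858) (nat_lit 235) (.node .nil (nat_lit 287) (nat_lit 2357) (nat_lit 186)
  .nil))) (nat_lit 288) (nat_lit 1991) (nat_lit 284) (.node (.node (.node (.node .nil (nat_lit 289) (nat_lit 2455) (nat_lit 285) .nil) (nat_lit 290) (nat_lit 2291) (nat_lit 253) .nil) (nat_lit 291)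
  (nat_lit 2233) (nat_lit 92) (.node .nil (nat_lit 292) (nat_lit 1682) (nat_lit 249) .nil)) (nat_lit 293) (nat_lit 1458) (nat_lit 248) (.node (.node (.node .nil (nat_lit 294) (nat_lit 1779) (nat_lit
  259) .nil) (nat_lit 295) (nat_lit 2099) (nat_lit 258) .nil) (nat_lit 296) (nat_lit 425) (nat_lit 29) (.node .nil (nat_lit 297) (nat_lit 729) (nat_lit 28) .nil)))))))
def l1 : Lvl := ⟨nat_lit 10, [nat_lit 1, nat_lit 2, nat_lit 3, nat_lit 4, nat_lit 5, nat_lit 6, nat_lit 7, nat_lit 8, nat_lit 9, nat_lit 10], [], l1t⟩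
def l2t : T := (.node (.node (.node (.node .nil (nat_lit 12) (nat_lit 0) (nat_lit 12) .nil) (nat_lit 13) (nat_lit 176) (nat_lit 32) (.node .nil (nat_lit 18) (nat_lit 128) (nat_lit 29) .nil)) (nat_lit
  19) (nat_lit 97) (nat_lit 33) (.node (.node .nil (nat_lit 22) (nat_lit 16) (nat_lit 12) .nil) (nat_lit 23) (nat_lit 65) (nat_lit 22) .nil)) (nat_lit 28) (nat_lit 145) (nat_lit 29) (.node (.node
  (.node .nil (nat_lit 29) (nat_lit 80) (nat_lit 39) .nil) (nat_lit 32) (nat_lit 112) (nat_lit 23) .nil) (nat_lit 33) (nat_lit 48) (nat_lit 22) (.node (.node .nil (nat_lit 38) (nat_lit 160) (nat_lit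
  19) .nil) (nat_lit 39) (nat_lit 33) (nat_lit 12) .nil)))
def l2 : Lvl := ⟨nat_lit 12, [nat_lit 260, nat_lit 5315], [], l2t⟩
def oU : T := (.node (.node (.node (.node .nil (nat_lit 0) (nat_lit 0) (nat_lit 0) .nil) (nat_lit 9) (nat_lit 22) (nat_lit 0) (.node .nil (nat_lit 14) (nat_lit 230) (nat_lit 52) .nil)) (nat_lit 15)
  (nat_lit 177) (nat_lit 37) (.node (.node .nil (nat_lit 36) (nat_lit 160) (nat_lit 37) .nil) (nat_lit 37) (nat_lit 88) (nat_lit 314) (.node .nil (nat_lit 52) (nat_lit 113) (nat_lit 62) .nil)))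
  (nat_lit 53) (nat_lit 193) (nat_lit 63) (.node (.node (.node .nil (nat_lit 62) (nat_lit 56) (nat_lit 0) .nil) (nat_lit 63) (nat_lit 96) (nat_lit 62) (.node .nil (nat_lit 108) (nat_lit 145) (nat_lit
  198) .nil)) (nat_lit 109) (nat_lit 215) (nat_lit 63) (.node (.node .nil (nat_lit 198) (nat_lit 72) (nat_lit 9) .nil) (nat_lit 199) (nat_lit 128) (nat_lit 198) (.node .nil (nat_lit 314) (nat_lit 39)
  (nat_lit 0) .nil))))
def tK_0 : T := (.node (.node (.node (.node (.node (.node (.node .nil (nat_lit 3162) (nat_lit 0) (nat_lit 0) .nil) (nat_lit 3163) (nat_lit 235651) (nat_lit 0x4b9020000000000000000000000127) (.node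
  .nil (nat_lit 3168) (nat_lit 235812) (nat_lit 0x225c10000000000000000000000000) .nil)) (nat_lit 3169) (nat_lit 302243) (nat_lit 0x711210000000000000000000000000) (.node (.node .nil (nat_lit 3172)
  (nat_lit 260) (nat_lit 0x1040000000000000000000000000) .nil) (nat_lit 3173) (nat_lit 170243) (nat_lit 0x720810000000000000000000000000) (.node .nil (nat_lit 3178) (nat_lit 6406) (nat_lit
  0x7208e0000000000000000000000000) .nil))) (nat_lit 3179) (nat_lit 106693) (nat_lit 0x411c10000000000000000000000000) (.node (.node (.node .nil (nat_lit 3182) (nat_lit 6438) (nat_lit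
  0x7112e0000000000000000000000000) .nil) (nat_lit 3183) (nat_lit 137) (nat_lit 0x890000000000000000000000000) (.node .nil (nat_lit 3188) (nat_lit 6278) (nat_lit 0x87244100000000000000000000000c8)
  .nil)) (nat_lit 3189) (nat_lit 5315) (nat_lit 0x1c10000000000000000000000006) (.node (.node .nil (nat_lit 3477) (nat_lit 203907) (nat_lit 0x97204100000000000000000000000e9) .nil) (nat_lit 3478)
  (nat_lit 1) (nat_lit 0x10000000000000000000000000) (.node .nil (nat_lit 3483) (nat_lit 205987) (nat_lit 0x38890000000000000000000000000) .nil)))) (nat_lit 3484) (nat_lit 238820) (nat_lit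
  0x112e0000000000000000000000000) (.node (.node (.node (.node .nil (nat_lit 3487) (nat_lit 204963) (nat_lit 0x39040000000000000000000000000) .nil) (nat_lit 3488) (nat_lit 8321) (nat_lit
  0x20810000000000000000000000000) (.node .nil (nat_lit 3493) (nat_lit 105733) (nat_lit 0x208e0000000000000000000000000) .nil)) (nat_lit 3494) (nat_lit 6376) (nat_lit
  0xe411c10000000000000000000000000) (.node (.node .nil (nat_lit 3497) (nat_lit 4385) (nat_lit 0x11210000000000000000000000000) .nil) (nat_lit 3498) (nat_lit 9446) (nat_lit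
  0xe225c10000000000000000000000000) (.node .nil (nat_lit 3503) (nat_lit 6307) (nat_lit 0xe0000000000000000000000005) .nil))) (nat_lit 3504) (nat_lit 200897) (nat_lit 0x439220000000000000000000000107)
  (.node (.node (.node .nil (nat_lit 3790) (nat_lit 134209) (nat_lit 0x20c4100000000000000000000024e5) .nil) (nat_lit 3791) (nat_lit 7362) (nat_lit 0x4b8680000000000000000000000000) (.node .nil
  (nat_lit 3798) (nat_lit 8257) (nat_lit 0x20410000000000000000000000000) .nil)) (nat_lit 3799) (nat_lit 104709) (nat_lit 0x39010000000000000000000000000) (.node (.node .nil (nat_lit 3802) (nat_lit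
  168231) (nat_lit 0x25c40000000000000000000000000) .nil) (nat_lit 3803) (nat_lit 9445) (nat_lit 0xdc90000000000000000000000000) .nil)))) (nat_lit 3808) (nat_lit 302275) (nat_lit
  0x7248e0000000000000000000000000) (.node (.node (.node (.node (.node .nil (nat_lit 3809) (nat_lit 299073) (nat_lit 0x490410000000000000000000000000) .nil) (nat_lit 3812) (nat_lit 267492) (nat_lit
  0x25c90000000000000000000000000) (.node .nil (nat_lit 3813) (nat_lit 205027) (nat_lit 0x21c20000000000000000000000000) .nil)) (nat_lit 3820) (nat_lit 3301) (nat_lit 0x411c90000000000000000000000000)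
  (.node (.node .nil (nat_lit 3821) (nat_lit 5316) (nat_lit 0xdc40000000000000000000000000) .nil) (nat_lit 4105) (nat_lit 6370) (nat_lit 0x48dc80000000000000000000000000) (.node .nil (nat_lit 4106)
  (nat_lit 4194) (nat_lit 0x10620000000000000000000001d25) .nil))) (nat_lit 4113) (nat_lit 167173) (nat_lit 0x1c80000000000000000000000000) (.node (.node (.node .nil (nat_lit 4114) (nat_lit 258)
  (nat_lit 0x1020000000000000000000000000) .nil) (nat_lit 4117) (nat_lit 6437) (nat_lit 0x39240000000000000000000000000) (.node .nil (nat_lit 4118) (nat_lit 168137) (nat_lit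
  0x4b8810000000000000000000000000) .nil)) (nat_lit 4123) (nat_lit 9346) (nat_lit 0x24820000000000000000000000000) (.node (.node .nil (nat_lit 4124) (nat_lit 206019) (nat_lit
  0x1a1c80000000000000000000000000) .nil) (nat_lit 4127) (nat_lit 137479) (nat_lit 0x438410000000000000000000000000) .nil))) (nat_lit 4128) (nat_lit 269476) (nat_lit 0x4b9210000000000000000000000000)
  (.node (.node (.node (.node .nil (nat_lit 4135) (nat_lit 6308) (nat_lit 0x38830000000000000000000000000) .nil) (nat_lit 4136) (nat_lit 3239) (nat_lit 0x8239210000000000000000000000000) (.node .nil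
  (nat_lit 5680) (nat_lit 300227) (nat_lit 0x25c10000000000000000000000000) .nil)) (nat_lit 5681) (nat_lit 238788) (nat_lit 0x724410000000000000000000000000) (.node (.node .nil (nat_lit 5682) (nat_lit
  104) (nat_lit 0x680000000000000000000000000) .nil) (nat_lit 5683) (nat_lit 8391) (nat_lit 0x1b9020000000000000000000000000) (.node .nil (nat_lit 5692) (nat_lit 4) (nat_lit
  0x40000000000000000000000008) .nil))) (nat_lit 5693) (nat_lit 3271) (nat_lit 0x9720810000000000000000000000000) (.node (.node (.node .nil (nat_lit 5698) (nat_lit 5346) (nat_lit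
  0x8724820000000000000000000000000) .nil) (nat_lit 5699) (nat_lit 233667) (nat_lit 0x11c10000000000000000000000000) (.node .nil (nat_lit 5708) (nat_lit 269475) (nat_lit
  0x9711210000000000000000000000000) .nil)) (nat_lit 5709) (nat_lit 205028) (nat_lit 0x1a1c10000000000000000000000000) (.node (.node .nil (nat_lit 5710) (nat_lit 137510) (nat_lit
  0x439020000000000000000000000000) .nil) (nat_lit 5711) (nat_lit 9) (nat_lit 0x90000000000000000000000000) .nil))))) (nat_lit 5995) (nat_lit 105766) (nat_lit 0x39220000000000000000000000000) (.node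
  (.node (.node (.node (.node (.node .nil (nat_lit 5996) (nat_lit 301219) (nat_lit 0x12e0000000000000000000000000) .nil) (nat_lit 5997) (nat_lit 8422) (nat_lit 0x70d020000000000000000000000000) (.node
  .nil (nat_lit 5998) (nat_lit 3329) (nat_lit 0xd010000000000000000000000000) .nil)) (nat_lit 6007) (nat_lit 3302) (nat_lit 0x4b9040000000000000000000000000) (.node (.node .nil (nat_lit 6008) (nat_lit
  129) (nat_lit 0x8100000000000000000000020c5) .nil) (nat_lit 6013) (nat_lit 137379) (nat_lit 0x8e0000000000000000000000000) (.node .nil (nat_lit 6014) (nat_lit 7330) (nat_lit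
  0x81b9220000000000000000000000000) .nil))) (nat_lit 6023) (nat_lit 269446) (nat_lit 0xd0e0000000000000000000000000) (.node (.node (.node .nil (nat_lit 6024) (nat_lit 267491) (nat_lit
  0x4b8890000000000000000000000000) .nil) (nat_lit 6025) (nat_lit 289) (nat_lit 0x1210000000000000000000000000) (.node .nil (nat_lit 6026) (nat_lit 140518) (nat_lit 0x8720410000000000000000000000000)
  .nil)) (nat_lit 6940) (nat_lit 265281) (nat_lit 0x40c410000000000000000000000000) (.node (.node .nil (nat_lit 6941) (nat_lit 268516) (nat_lit 0x239010000000000000000000000000) .nil) (nat_lit 6942)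
  (nat_lit 7463) (nat_lit 0x48dc20000000000000000000000000) .nil))) (nat_lit 6943) (nat_lit 140517) (nat_lit 0x20dc90000000000000000000000000) (.node (.node (.node (.node .nil (nat_lit 6948) (nat_lit
  3137) (nat_lit 0xc4100000000000000000000000e5) .nil) (nat_lit 6949) (nat_lit 6372) (nat_lit 0x9239010000000000000000000000000) (.node .nil (nat_lit 6962) (nat_lit 200899) (nat_lit
  0x1a1c90000000000000000000000000) .nil)) (nat_lit 6963) (nat_lit 5314) (nat_lit 0xdc20000000000000000000000000) (.node (.node .nil (nat_lit 6968) (nat_lit 206020) (nat_lit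
  0x8239010000000000000000000000000) .nil) (nat_lit 6969) (nat_lit 298049) (nat_lit 0x48c410000000000000000000000000) (.node .nil (nat_lit 6970) (nat_lit 106725) (nat_lit
  0x225c90000000000000000000000000) .nil))) (nat_lit 6971) (nat_lit 205025) (nat_lit 0x40dc20000000000000000000000000) (.node (.node (.node .nil (nat_lit 7255) (nat_lit 269508) (nat_lit
  0x11c80000000000000000000000000) .nil) (nat_lit 7256) (nat_lit 8290) (nat_lit 0x20620000000000000000000000000) (.node .nil (nat_lit 7257) (nat_lit 137509) (nat_lit 0x724620000000000000000000000000)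
  .nil)) (nat_lit 7258) (nat_lit 7369) (nat_lit 0x4b8620000000000000000000000000) (.node (.node .nil (nat_lit 7263) (nat_lit 7364) (nat_lit 0x491c80000000000000000000000000) .nil) (nat_lit 7264)
  (nat_lit 98) (nat_lit 0x6200000000000000000000000e6) .nil)))) (nat_lit 7277) (nat_lit 6306) (nat_lit 0x38620000000000000000000000000) (.node (.node (.node (.node (.node .nil (nat_lit 7278) (nat_lit
  105636) (nat_lit 0x3439210000000000000000000000000) .nil) (nat_lit 7283) (nat_lit 9314) (nat_lit 0x24620000000000000000000000000) (.node .nil (nat_lit 7284) (nat_lit 302276) (nat_lit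
  0x411c80000000000000000000000000) .nil)) (nat_lit 7285) (nat_lit 6407) (nat_lit 0x438620000000000000000000000000) (.node (.node .nil (nat_lit 7286) (nat_lit 106663) (nat_lit
  0x44b9210000000000000000000000000) .nil) (nat_lit 8830) (nat_lit 167174) (nat_lit 0x7206e0000000000000000000000000) (.node .nil (nat_lit 8831) (nat_lit 7429) (nat_lit
  0x206e0000000000000000000000000) .nil))) (nat_lit 8832) (nat_lit 238756) (nat_lit 0x7246e0000000000000000000000000) (.node (.node (.node .nil (nat_lit 8833) (nat_lit 9313) (nat_lit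
  0x24610000000000000000000000000) .nil) (nat_lit 8838) (nat_lit 234627) (nat_lit 0x8724610000000000000000000000000) (.node .nil (nat_lit 8839) (nat_lit 166) (nat_lit 0x6e0000000000000000000000000)
  .nil)) (nat_lit 8852) (nat_lit 97) (nat_lit 0x6100000000000000000000000c5) (.node (.node .nil (nat_lit 8853) (nat_lit 5254) (nat_lit 0x9720610000000000000000000000000) .nil) (nat_lit 8858) (nat_lit
  9382) (nat_lit 0x246e0000000000000000000000000) .nil))) (nat_lit 8859) (nat_lit 168230) (nat_lit 0x724610000000000000000000000000) (.node (.node (.node (.node .nil (nat_lit 8860) (nat_lit 8289)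
  (nat_lit 0x20610000000000000000000000000) .nil) (nat_lit 8861) (nat_lit 170244) (nat_lit 0x720610000000000000000000000000) (.node .nil (nat_lit 9145) (nat_lit 8389) (nat_lit
  0x21c30000000000000000000000000) .nil)) (nat_lit 9146) (nat_lit 104710) (nat_lit 0x4b9230000000000000000000000000) (.node (.node .nil (nat_lit 9147) (nat_lit 291) (nat_lit
  0x1230000000000000000000000000) .nil) (nat_lit 9148) (nat_lit 171300) (nat_lit 0x439030000000000000000000000000) (.node .nil (nat_lit 9153) (nat_lit 197) (nat_lit 0x1c30000000000000000000000000)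
  .nil))) (nat_lit 9154) (nat_lit 171139) (nat_lit 0x439230000000000000000000000000) (.node (.node (.node .nil (nat_lit 9167) (nat_lit 4295) (nat_lit 0x4b9030000000000000000000000000) .nil) (nat_lit
  9168) (nat_lit 3) (nat_lit 0x30000000000000000000000000) (.node .nil (nat_lit 9173) (nat_lit 201865) (nat_lit 0x39230000000000000000000000000) .nil)) (nat_lit 9174) (nat_lit 9413) (nat_lit
  0x25c30000000000000000000000000) (.node (.node .nil (nat_lit 9175) (nat_lit 204964) (nat_lit 0x39030000000000000000000000000) .nil) (nat_lit 9176) (nat_lit 259) (nat_lit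
  0x1030000000000000000000000000) .nil))))))
def tK_1 : T := (.node (.node (.node (.node (.node (.node (.node .nil (nat_lit 10091) (nat_lit 290) (nat_lit 0x1220000000000000000000000000) .nil) (nat_lit 10092) (nat_lit 204035) (nat_lit
  0x70d0e0000000000000000000000000) (.node .nil (nat_lit 10093) (nat_lit 268452) (nat_lit 0x438830000000000000000000000000) .nil)) (nat_lit 10102) (nat_lit 167) (nat_lit
  0x439240000000000000000000000000) (.node (.node .nil (nat_lit 10103) (nat_lit 170115) (nat_lit 0x38810000000000000000000000000) .nil) (nat_lit 10108) (nat_lit 130) (nat_lit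
  0x820000000000000000000001905) (.node .nil (nat_lit 10109) (nat_lit 6371) (nat_lit 0x225c80000000000000000000000000) .nil))) (nat_lit 10118) (nat_lit 3330) (nat_lit 0xd020000000000000000000000000)
  (.node (.node (.node .nil (nat_lit 10119) (nat_lit 5320) (nat_lit 0xdc80000000000000000000000000) .nil) (nat_lit 10120) (nat_lit 238819) (nat_lit 0x4b8410000000000000000000000000) (.node .nil
  (nat_lit 10121) (nat_lit 302244) (nat_lit 0x39210000000000000000000000000) .nil)) (nat_lit 10405) (nat_lit 9281) (nat_lit 0x24410000000000000000000000000) (.node (.node .nil (nat_lit 10406) (nat_lit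
  234633) (nat_lit 0x439010000000000000000000000000) .nil) (nat_lit 10407) (nat_lit 237732) (nat_lit 0x1a1c20000000000000000000000000) .nil))) (nat_lit 10408) (nat_lit 204995) (nat_lit
  0x491c90000000000000000000000000) (.node (.node (.node (.node .nil (nat_lit 10417) (nat_lit 201859) (nat_lit 0x1c40000000000000000000000000) .nil) (nat_lit 10418) (nat_lit 229) (nat_lit
  0x40dc90000000000000000000000000) (.node .nil (nat_lit 10423) (nat_lit 7363) (nat_lit 0x44b9010000000000000000000000000) .nil)) (nat_lit 10424) (nat_lit 4161) (nat_lit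
  0x104100000000000000000000020e5) (.node (.node .nil (nat_lit 10433) (nat_lit 6405) (nat_lit 0x38680000000000000000000000000) .nil) (nat_lit 10434) (nat_lit 106561) (nat_lit
  0x1a0410000000000000000000000000) (.node .nil (nat_lit 10435) (nat_lit 205988) (nat_lit 0x1c90000000000000000000000000) .nil))) (nat_lit 10436) (nat_lit 235811) (nat_lit
  0x25c20000000000000000000000000) (.node (.node (.node .nil (nat_lit 11980) (nat_lit 5347) (nat_lit 0x438890000000000000000000000000) .nil) (nat_lit 11981) (nat_lit 7302) (nat_lit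
  0x106e0000000000000000000000000) (.node .nil (nat_lit 11988) (nat_lit 204996) (nat_lit 0x4b9220000000000000000000000000) .nil)) (nat_lit 11989) (nat_lit 268451) (nat_lit
  0x10e0000000000000000000000000) (.node (.node .nil (nat_lit 11992) (nat_lit 171299) (nat_lit 0x439040000000000000000000000000) .nil) (nat_lit 11993) (nat_lit 9345) (nat_lit
  0x24810000000000000000000000000) .nil)))) (nat_lit 11998) (nat_lit 140454) (nat_lit 0x248e0000000000000000000000000) (.node (.node (.node (.node (.node .nil (nat_lit 11999) (nat_lit 7462) (nat_lit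
  0x1b9220000000000000000000000000) .nil) (nat_lit 12002) (nat_lit 257) (nat_lit 0x1010000000000000000000000000) (.node .nil (nat_lit 12003) (nat_lit 106726) (nat_lit 0x720410000000000000000000000000)
  .nil)) (nat_lit 12010) (nat_lit 4193) (nat_lit 0x106100000000000000000000024c5) (.node (.node .nil (nat_lit 12011) (nat_lit 230) (nat_lit 0x970d020000000000000000000000000) .nil) (nat_lit 12295)
  (nat_lit 4293) (nat_lit 0x11c30000000000000000000000000) (.node .nil (nat_lit 12296) (nat_lit 7331) (nat_lit 0x8711210000000000000000000000000) .nil))) (nat_lit 12303) (nat_lit 237731) (nat_lit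
  0x21c10000000000000000000000000) (.node (.node (.node .nil (nat_lit 12304) (nat_lit 204036) (nat_lit 0x9724410000000000000000000000000) .nil) (nat_lit 12307) (nat_lit 292) (nat_lit
  0x1240000000000000000000000000) (.node .nil (nat_lit 12308) (nat_lit 238755) (nat_lit 0x8720810000000000000000000000000) .nil)) (nat_lit 12313) (nat_lit 238785) (nat_lit
  0x724820000000000000000000000000) (.node (.node .nil (nat_lit 12314) (nat_lit 140485) (nat_lit 0x491c10000000000000000000000000) .nil) (nat_lit 12317) (nat_lit 106695) (nat_lit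
  0x39020000000000000000000000000) .nil))) (nat_lit 12318) (nat_lit 8) (nat_lit 0x80000000000000000000000000) (.node (.node (.node (.node .nil (nat_lit 12325) (nat_lit 199) (nat_lit
  0x91b9020000000000000000000000000) .nil) (nat_lit 12326) (nat_lit 131) (nat_lit 0x830000000000000000000000009) (.node .nil (nat_lit 12612) (nat_lit 7332) (nat_lit 0x439210000000000000000000000106)
  .nil)) (nat_lit 12613) (nat_lit 232673) (nat_lit 0x38410000000000000000000000086) (.node (.node .nil (nat_lit 12618) (nat_lit 7461) (nat_lit 0x40dc80000000000000000000000000) .nil) (nat_lit 12619)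
  (nat_lit 4386) (nat_lit 0x11220000000000000000000000000) (.node .nil (nat_lit 12622) (nat_lit 8359) (nat_lit 0x4b9240000000000000000000000000) .nil))) (nat_lit 12623) (nat_lit 104711) (nat_lit
  0x438810000000000000000000000000) (.node (.node (.node .nil (nat_lit 12628) (nat_lit 8322) (nat_lit 0x20820000000000000000000000000) .nil) (nat_lit 12629) (nat_lit 268515) (nat_lit
  0x20dc80000000000000000000000000) (.node .nil (nat_lit 12632) (nat_lit 301220) (nat_lit 0x4b8830000000000000000000000000) .nil)) (nat_lit 12633) (nat_lit 238787) (nat_lit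
  0x239210000000000000000000000000) (.node (.node .nil (nat_lit 12638) (nat_lit 2) (nat_lit 0x20000000000000000000000000) .nil) (nat_lit 12639) (nat_lit 137443) (nat_lit
  0x25c80000000000000000000000125) .nil))))) (nat_lit 12927) (nat_lit 7271) (nat_lit 0x1c20000000000000000000000007) (.node (.node (.node (.node (.node (.node .nil (nat_lit 12928) (nat_lit 5348)
  (nat_lit 0x21c90000000000000000000000105) .nil) (nat_lit 12933) (nat_lit 140353) (nat_lit 0x224410000000000000000000000000) (.node .nil (nat_lit 12934) (nat_lit 5353) (nat_lit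
  0x438680000000000000000000000000) .nil)) (nat_lit 12937) (nat_lit 167175) (nat_lit 0x21c40000000000000000000000000) (.node (.node .nil (nat_lit 12938) (nat_lit 8421) (nat_lit
  0x48dc90000000000000000000000000) .nil) (nat_lit 12943) (nat_lit 269507) (nat_lit 0x720820000000000000000000000000) (.node .nil (nat_lit 12944) (nat_lit 266305) (nat_lit
  0x410410000000000000000000000000) .nil))) (nat_lit 12947) (nat_lit 238693) (nat_lit 0x11c90000000000000000000000000) (.node (.node (.node .nil (nat_lit 12948) (nat_lit 300228) (nat_lit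
  0x225c20000000000000000000000000) .nil) (nat_lit 12953) (nat_lit 168131) (nat_lit 0x4b9010000000000000000000000126) (.node .nil (nat_lit 12954) (nat_lit 65) (nat_lit 0x410000000000000000000000005)
  .nil)) (nat_lit 13274) (nat_lit 69) (nat_lit 0) (.node (.node .nil (nat_lit 13275) (nat_lit 4291) (nat_lit 0) .nil) (nat_lit 13282) (nat_lit 3335) (nat_lit 0) .nil))) (nat_lit 13283) (nat_lit 8417)
  (nat_lit 0) (.node (.node (.node (.node .nil (nat_lit 13284) (nat_lit 70793) (nat_lit 0) .nil) (nat_lit 13285) (nat_lit 233) (nat_lit 0) (.node .nil (nat_lit 13290) (nat_lit 9412) (nat_lit 0) .nil))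
  (nat_lit 13291) (nat_lit 302178) (nat_lit 0) (.node (.node .nil (nat_lit 13292) (nat_lit 264356) (nat_lit 0) .nil) (nat_lit 13293) (nat_lit 265442) (nat_lit 0) (.node .nil (nat_lit 13300) (nat_lit
  3234) (nat_lit 0) .nil))) (nat_lit 13301) (nat_lit 228) (nat_lit 0) (.node (.node (.node .nil (nat_lit 13589) (nat_lit 3300) (nat_lit 0) .nil) (nat_lit 13590) (nat_lit 162) (nat_lit 0) (.node .nil
  (nat_lit 13597) (nat_lit 263) (nat_lit 0) .nil)) (nat_lit 13598) (nat_lit 106721) (nat_lit 0) (.node (.node .nil (nat_lit 13599) (nat_lit 7457) (nat_lit 0) .nil) (nat_lit 13600) (nat_lit 168226)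
  (nat_lit 0) .nil)))) (nat_lit 13605) (nat_lit 205922) (nat_lit 0) (.node (.node (.node (.node (.node .nil (nat_lit 13606) (nat_lit 3305) (nat_lit 0) .nil) (nat_lit 13607) (nat_lit 204898) (nat_lit
  0) (.node .nil (nat_lit 13608) (nat_lit 267394) (nat_lit 0) .nil)) (nat_lit 13615) (nat_lit 7297) (nat_lit 0) (.node (.node .nil (nat_lit 13616) (nat_lit 6242) (nat_lit 0) .nil) (nat_lit 13902)
  (nat_lit 5251) (nat_lit 0) (.node .nil (nat_lit 13903) (nat_lit 6373) (nat_lit 0) .nil))) (nat_lit 13912) (nat_lit 9380) (nat_lit 0) (.node (.node (.node .nil (nat_lit 13913) (nat_lit 238689)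
  (nat_lit 0) .nil) (nat_lit 13914) (nat_lit 8387) (nat_lit 0) (.node .nil (nat_lit 13915) (nat_lit 264420) (nat_lit 0) .nil)) (nat_lit 13920) (nat_lit 261) (nat_lit 0) (.node (.node .nil (nat_lit
  13921) (nat_lit 106658) (nat_lit 0) .nil) (nat_lit 13922) (nat_lit 137506) (nat_lit 0) .nil))) (nat_lit 13923) (nat_lit 9442) (nat_lit 0) (.node (.node (.node (.node .nil (nat_lit 13932) (nat_lit
  2244) (nat_lit 0) .nil) (nat_lit 13933) (nat_lit 7265) (nat_lit 0) (.node .nil (nat_lit 14217) (nat_lit 7365) (nat_lit 0) .nil)) (nat_lit 14218) (nat_lit 3268) (nat_lit 0) (.node (.node .nil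
  (nat_lit 14227) (nat_lit 7459) (nat_lit 0) .nil) (nat_lit 14228) (nat_lit 3273) (nat_lit 0) (.node .nil (nat_lit 14229) (nat_lit 269442) (nat_lit 0) .nil))) (nat_lit 14230) (nat_lit 7427) (nat_lit
  0) (.node (.node (.node .nil (nat_lit 14235) (nat_lit 199938) (nat_lit 0) .nil) (nat_lit 14236) (nat_lit 8353) (nat_lit 0) (.node .nil (nat_lit 14237) (nat_lit 6434) (nat_lit 0) .nil)) (nat_lit
  14238) (nat_lit 140514) (nat_lit 0) (.node (.node .nil (nat_lit 14247) (nat_lit 227) (nat_lit 0) .nil) (nat_lit 14248) (nat_lit 6274) (nat_lit 0) .nil))))))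
def tK_2 : T := (.node (.node (.node (.node (.node (.node (.node .nil (nat_lit 16423) (nat_lit 106690) (nat_lit 0) .nil) (nat_lit 16424) (nat_lit 298178) (nat_lit 0) (.node .nil (nat_lit 16425)
  (nat_lit 299202) (nat_lit 0) .nil)) (nat_lit 16434) (nat_lit 3266) (nat_lit 0) (.node (.node .nil (nat_lit 16435) (nat_lit 4290) (nat_lit 0) .nil) (nat_lit 16440) (nat_lit 194) (nat_lit 0) (.node
  .nil (nat_lit 16441) (nat_lit 134338) (nat_lit 0) .nil))) (nat_lit 16450) (nat_lit 9410) (nat_lit 0) (.node (.node (.node .nil (nat_lit 16451) (nat_lit 140482) (nat_lit 0) .nil) (nat_lit 16452)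
  (nat_lit 265410) (nat_lit 0) (.node .nil (nat_lit 16453) (nat_lit 204930) (nat_lit 0) .nil)) (nat_lit 16737) (nat_lit 105730) (nat_lit 0) (.node (.node .nil (nat_lit 16738) (nat_lit 7426) (nat_lit
  0) .nil) (nat_lit 16739) (nat_lit 238722) (nat_lit 0) .nil))) (nat_lit 16740) (nat_lit 300130) (nat_lit 0) (.node (.node (.node (.node .nil (nat_lit 16749) (nat_lit 4166) (nat_lit 0) .nil) (nat_lit
  16750) (nat_lit 5218) (nat_lit 0) (.node .nil (nat_lit 16755) (nat_lit 233570) (nat_lit 0) .nil)) (nat_lit 16756) (nat_lit 70) (nat_lit 0) (.node (.node .nil (nat_lit 16765) (nat_lit 140358)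
  (nat_lit 0) .nil) (nat_lit 16766) (nat_lit 9286) (nat_lit 0) (.node .nil (nat_lit 16767) (nat_lit 71940) (nat_lit 0) .nil))) (nat_lit 16768) (nat_lit 267362) (nat_lit 0) (.node (.node (.node .nil
  (nat_lit 17052) (nat_lit 293) (nat_lit 0) .nil) (nat_lit 17053) (nat_lit 140450) (nat_lit 0) (.node .nil (nat_lit 17054) (nat_lit 237698) (nat_lit 0) .nil)) (nat_lit 17055) (nat_lit 4296) (nat_lit
  0) (.node (.node .nil (nat_lit 17062) (nat_lit 164) (nat_lit 0) .nil) (nat_lit 17063) (nat_lit 3297) (nat_lit 0) .nil)))) (nat_lit 17072) (nat_lit 200802) (nat_lit 0) (.node (.node (.node (.node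
  (.node .nil (nat_lit 17073) (nat_lit 226) (nat_lit 0) .nil) (nat_lit 17080) (nat_lit 5224) (nat_lit 0) (.node .nil (nat_lit 17081) (nat_lit 6402) (nat_lit 0) .nil)) (nat_lit 17082) (nat_lit 9411)
  (nat_lit 0) (.node (.node .nil (nat_lit 17083) (nat_lit 205954) (nat_lit 0) .nil) (nat_lit 17367) (nat_lit 140357) (nat_lit 0) (.node .nil (nat_lit 17368) (nat_lit 9377) (nat_lit 0) .nil))) (nat_lit
  17369) (nat_lit 8419) (nat_lit 0) (.node (.node (.node .nil (nat_lit 17370) (nat_lit 268418) (nat_lit 0) .nil) (nat_lit 17377) (nat_lit 103) (nat_lit 0) (.node .nil (nat_lit 17378) (nat_lit 5249)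
  (nat_lit 0) .nil)) (nat_lit 17387) (nat_lit 71) (nat_lit 0) (.node (.node .nil (nat_lit 17388) (nat_lit 103554) (nat_lit 0) .nil) (nat_lit 17395) (nat_lit 2248) (nat_lit 0) .nil))) (nat_lit 17396)
  (nat_lit 3272) (nat_lit 0) (.node (.node (.node (.node .nil (nat_lit 17397) (nat_lit 302210) (nat_lit 0) .nil) (nat_lit 17398) (nat_lit 9317) (nat_lit 0) (.node .nil (nat_lit 18942) (nat_lit 298146)
  (nat_lit 0) .nil)) (nat_lit 18943) (nat_lit 9444) (nat_lit 0) (.node (.node .nil (nat_lit 18944) (nat_lit 104706) (nat_lit 0) .nil) (nat_lit 18945) (nat_lit 6401) (nat_lit 0) (.node .nil (nat_lit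
  18952) (nat_lit 3236) (nat_lit 0) .nil))) (nat_lit 18953) (nat_lit 225) (nat_lit 4421) (.node (.node (.node .nil (nat_lit 18962) (nat_lit 2212) (nat_lit 0) .nil) (nat_lit 18963) (nat_lit 3298)
  (nat_lit 0) (.node .nil (nat_lit 18970) (nat_lit 8388) (nat_lit 0) .nil)) (nat_lit 18971) (nat_lit 269410) (nat_lit 0) (.node (.node .nil (nat_lit 18972) (nat_lit 9285) (nat_lit 0) .nil) (nat_lit
  18973) (nat_lit 140449) (nat_lit 0) .nil))))) (nat_lit 19257) (nat_lit 6436) (nat_lit 0) (.node (.node (.node (.node (.node (.node .nil (nat_lit 19258) (nat_lit 301154) (nat_lit 0) .nil) (nat_lit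
  19259) (nat_lit 200) (nat_lit 0) (.node .nil (nat_lit 19260) (nat_lit 167170) (nat_lit 0) .nil)) (nat_lit 19267) (nat_lit 7) (nat_lit 138) (.node (.node .nil (nat_lit 19268) (nat_lit 6275) (nat_lit
  0) .nil) (nat_lit 19277) (nat_lit 3143) (nat_lit 0) (.node .nil (nat_lit 19278) (nat_lit 5250) (nat_lit 0) .nil))) (nat_lit 19285) (nat_lit 137474) (nat_lit 0) (.node (.node (.node .nil (nat_lit
  19286) (nat_lit 7428) (nat_lit 0) .nil) (nat_lit 19287) (nat_lit 4389) (nat_lit 0) (.node .nil (nat_lit 19288) (nat_lit 9378) (nat_lit 0) .nil)) (nat_lit 19572) (nat_lit 8355) (nat_lit 0) (.node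
  (.node .nil (nat_lit 19573) (nat_lit 204929) (nat_lit 0) .nil) (nat_lit 19574) (nat_lit 9409) (nat_lit 0) .nil))) (nat_lit 19575) (nat_lit 140481) (nat_lit 0) (.node (.node (.node (.node .nil
  (nat_lit 19584) (nat_lit 193) (nat_lit 106) .nil) (nat_lit 19585) (nat_lit 7299) (nat_lit 0) (.node .nil (nat_lit 19590) (nat_lit 163) (nat_lit 0) .nil)) (nat_lit 19591) (nat_lit 4289) (nat_lit 0)
  (.node (.node .nil (nat_lit 19600) (nat_lit 9379) (nat_lit 0) .nil) (nat_lit 19601) (nat_lit 7460) (nat_lit 0) (.node .nil (nat_lit 19602) (nat_lit 232) (nat_lit 0) .nil))) (nat_lit 19603) (nat_lit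
  3304) (nat_lit 0) (.node (.node (.node .nil (nat_lit 19887) (nat_lit 6404) (nat_lit 0) .nil) (nat_lit 19888) (nat_lit 8294) (nat_lit 0) (.node .nil (nat_lit 19889) (nat_lit 4390) (nat_lit 0) .nil))
  (nat_lit 19890) (nat_lit 294) (nat_lit 0) (.node (.node .nil (nat_lit 19899) (nat_lit 4198) (nat_lit 0) .nil) (nat_lit 19900) (nat_lit 6) (nat_lit 3397) .nil)))) (nat_lit 19905) (nat_lit 134)
  (nat_lit 0) (.node (.node (.node (.node (.node .nil (nat_lit 19906) (nat_lit 102) (nat_lit 0) .nil) (nat_lit 19915) (nat_lit 9350) (nat_lit 0) (.node .nil (nat_lit 19916) (nat_lit 9318) (nat_lit 0)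
  .nil)) (nat_lit 19917) (nat_lit 3334) (nat_lit 0) (.node (.node .nil (nat_lit 19918) (nat_lit 262) (nat_lit 0) .nil) (nat_lit 22092) (nat_lit 196) (nat_lit 0) (.node .nil (nat_lit 22093) (nat_lit
  7266) (nat_lit 0) .nil))) (nat_lit 22102) (nat_lit 4391) (nat_lit 0) (.node (.node (.node .nil (nat_lit 22103) (nat_lit 201) (nat_lit 0) .nil) (nat_lit 22104) (nat_lit 8261) (nat_lit 0) (.node .nil
  (nat_lit 22105) (nat_lit 6248) (nat_lit 0) .nil)) (nat_lit 22110) (nat_lit 237666) (nat_lit 0) (.node (.node .nil (nat_lit 22111) (nat_lit 8420) (nat_lit 0) .nil) (nat_lit 22112) (nat_lit 104738)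
  (nat_lit 0) .nil))) (nat_lit 22113) (nat_lit 238690) (nat_lit 0) (.node (.node (.node (.node .nil (nat_lit 22122) (nat_lit 104578) (nat_lit 0) .nil) (nat_lit 22123) (nat_lit 3299) (nat_lit 4202)
  (.node .nil (nat_lit 22407) (nat_lit 2275) (nat_lit 0) .nil)) (nat_lit 22408) (nat_lit 6273) (nat_lit 0) (.node (.node .nil (nat_lit 22417) (nat_lit 295) (nat_lit 0) .nil) (nat_lit 22418) (nat_lit
  4297) (nat_lit 0) (.node .nil (nat_lit 22419) (nat_lit 3333) (nat_lit 0) .nil))) (nat_lit 22420) (nat_lit 8354) (nat_lit 0) (.node (.node (.node .nil (nat_lit 22425) (nat_lit 269441) (nat_lit 0)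
  .nil) (nat_lit 22426) (nat_lit 268386) (nat_lit 0) (.node .nil (nat_lit 22427) (nat_lit 72995) (nat_lit 0) .nil)) (nat_lit 22428) (nat_lit 300162) (nat_lit 0) (.node (.node .nil (nat_lit 22437)
  (nat_lit 4292) (nat_lit 134469) .nil) (nat_lit 22438) (nat_lit 168034) (nat_lit 0) .nil))))))
def tK_3 : T := (.node (.node (.node (.node (.node (.node (.node .nil (nat_lit 22725) (nat_lit 2276) (nat_lit 0) .nil) (nat_lit 22732) (nat_lit 8356) (nat_lit 0) (.node .nil (nat_lit 22733) (nat_lit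
  6403) (nat_lit 0) .nil)) (nat_lit 22734) (nat_lit 105762) (nat_lit 0) (.node (.node .nil (nat_lit 22735) (nat_lit 6435) (nat_lit 0) .nil) (nat_lit 22740) (nat_lit 5257) (nat_lit 0) (.node .nil
  (nat_lit 22741) (nat_lit 2281) (nat_lit 0) .nil))) (nat_lit 22742) (nat_lit 106567) (nat_lit 0) (.node (.node (.node .nil (nat_lit 22743) (nat_lit 8418) (nat_lit 0) .nil) (nat_lit 22750) (nat_lit 5)
  (nat_lit 10) (.node .nil (nat_lit 22751) (nat_lit 105602) (nat_lit 0) .nil)) (nat_lit 23039) (nat_lit 7298) (nat_lit 0) (.node (.node .nil (nat_lit 23040) (nat_lit 101) (nat_lit 0) .nil) (nat_lit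
  23047) (nat_lit 8295) (nat_lit 0) .nil))) (nat_lit 23048) (nat_lit 267393) (nat_lit 0) (.node (.node (.node (.node .nil (nat_lit 23049) (nat_lit 9443) (nat_lit 0) .nil) (nat_lit 23050) (nat_lit
  301186) (nat_lit 0) (.node .nil (nat_lit 23055) (nat_lit 7458) (nat_lit 0) .nil)) (nat_lit 23056) (nat_lit 168225) (nat_lit 0) (.node (.node .nil (nat_lit 23057) (nat_lit 8263) (nat_lit 0) .nil)
  (nat_lit 23058) (nat_lit 106722) (nat_lit 0) (.node .nil (nat_lit 23065) (nat_lit 137314) (nat_lit 0) .nil))) (nat_lit 23066) (nat_lit 161) (nat_lit 325) (.node (.node (.node .nil (nat_lit 25934)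
  (nat_lit 0xe41a882) (nat_lit 0) .nil) (nat_lit 25935) (nat_lit 0x331143) (nat_lit 0) (.node .nil (nat_lit 26038) (nat_lit 0xc91a882) (nat_lit 0) .nil)) (nat_lit 26039) (nat_lit 0x91a8c3) (nat_lit 0)
  (.node (.node .nil (nat_lit 26048) (nat_lit 0xa228a4) (nat_lit 0) .nil) (nat_lit 26049) (nat_lit 0x8228a4) (nat_lit 0) .nil)))) (nat_lit 26070) (nat_lit 0x8351483) (nat_lit 0) (.node (.node (.node
  (.node (.node .nil (nat_lit 26071) (nat_lit 0x620d42) (nat_lit 0) .nil) (nat_lit 26096) (nat_lit 0x8228e2) (nat_lit 0) (.node .nil (nat_lit 26097) (nat_lit 0xa228e2) (nat_lit 0) .nil)) (nat_lit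
  26120) (nat_lit 0x1d2351062) (nat_lit 0) (.node (.node .nil (nat_lit 26121) (nat_lit 298309) (nat_lit 0) .nil) (nat_lit 26249) (nat_lit 0x41a8e3) (nat_lit 0) (.node .nil (nat_lit 26250) (nat_lit
  0x8351882) (nat_lit 0) .nil))) (nat_lit 26353) (nat_lit 0x928d43) (nat_lit 0) (.node (.node (.node .nil (nat_lit 26354) (nat_lit 0x12351c82) (nat_lit 0) .nil) (nat_lit 26363) (nat_lit 0xa29143)
  (nat_lit 0) (.node .nil (nat_lit 26364) (nat_lit 0x829143) (nat_lit 0) .nil)) (nat_lit 26385) (nat_lit 0x329142) (nat_lit 0) (.node (.node .nil (nat_lit 26386) (nat_lit 0x144520e3) (nat_lit 0) .nil)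
  (nat_lit 26411) (nat_lit 0xa31142) (nat_lit 0) .nil))) (nat_lit 26412) (nat_lit 0x831142) (nat_lit 0) (.node (.node (.node (.node .nil (nat_lit 26435) (nat_lit 0x91a8a1) (nat_lit 0) .nil) (nat_lit
  26436) (nat_lit 0x246a21862) (nat_lit 0) (.node .nil (nat_lit 26560) (nat_lit 0xa41cc4) (nat_lit 0) .nil)) (nat_lit 26561) (nat_lit 335970) (nat_lit 0) (.node (.node .nil (nat_lit 26664) (nat_lit
  335044) (nat_lit 0) .nil) (nat_lit 26665) (nat_lit 10338) (nat_lit 0) (.node .nil (nat_lit 26680) (nat_lit 336994) (nat_lit 0) .nil))) (nat_lit 26681) (nat_lit 0xa49cc4) (nat_lit 0) (.node (.node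
  (.node .nil (nat_lit 26694) (nat_lit 0xa21925) (nat_lit 0) .nil) (nat_lit 26695) (nat_lit 335049) (nat_lit 0) (.node .nil (nat_lit 26716) (nat_lit 0xa1a0a7) (nat_lit 0) .nil)) (nat_lit 26717)
  (nat_lit 334087) (nat_lit 0) (.node (.node .nil (nat_lit 26734) (nat_lit 0x63a883) (nat_lit 0) .nil) (nat_lit 26735) (nat_lit 239841) (nat_lit 3399) .nil))))) (nat_lit 26875) (nat_lit 0xa40c41)
  (nat_lit 0) (.node (.node (.node (.node (.node (.node .nil (nat_lit 26876) (nat_lit 0xa418e4) (nat_lit 0) .nil) (nat_lit 26979) (nat_lit 330817) (nat_lit 0) (.node .nil (nat_lit 26980) (nat_lit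
  334052) (nat_lit 0) .nil)) (nat_lit 26995) (nat_lit 0xa324c4) (nat_lit 0) (.node (.node .nil (nat_lit 26996) (nat_lit 0xa48c41) (nat_lit 0) .nil) (nat_lit 27009) (nat_lit 335143) (nat_lit 0) (.node
  .nil (nat_lit 27010) (nat_lit 0xa224e5) (nat_lit 0) .nil))) (nat_lit 27031) (nat_lit 302407) (nat_lit 0) (.node (.node (.node .nil (nat_lit 27032) (nat_lit 0xa1a0e5) (nat_lit 0) .nil) (nat_lit
  27049) (nat_lit 7495) (nat_lit 3306) (.node .nil (nat_lit 27050) (nat_lit 0x751883) (nat_lit 0) .nil)) (nat_lit 27192) (nat_lit 0xa41c82) (nat_lit 0) (.node (.node .nil (nat_lit 27193) (nat_lit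
  335107) (nat_lit 0) .nil) (nat_lit 27296) (nat_lit 10467) (nat_lit 0) .nil))) (nat_lit 27297) (nat_lit 333954) (nat_lit 0) (.node (.node (.node (.node .nil (nat_lit 27312) (nat_lit 330953) (nat_lit
  0) .nil) (nat_lit 27313) (nat_lit 335139) (nat_lit 0) (.node .nil (nat_lit 27348) (nat_lit 7490) (nat_lit 0) .nil)) (nat_lit 27349) (nat_lit 330948) (nat_lit 0) (.node (.node .nil (nat_lit 27362)
  (nat_lit 0xa30d02) (nat_lit 0) .nil) (nat_lit 27363) (nat_lit 336033) (nat_lit 0) (.node .nil (nat_lit 27372) (nat_lit 334114) (nat_lit 0) .nil))) (nat_lit 27373) (nat_lit 0xa224e2) (nat_lit 0)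
  (.node (.node (.node .nil (nat_lit 27507) (nat_lit 336067) (nat_lit 0) .nil) (nat_lit 27508) (nat_lit 0xa408e4) (nat_lit 0) (.node .nil (nat_lit 27611) (nat_lit 329924) (nat_lit 0) .nil)) (nat_lit
  27612) (nat_lit 334945) (nat_lit 0) (.node (.node .nil (nat_lit 27627) (nat_lit 0xa3a461) (nat_lit 0) .nil) (nat_lit 27628) (nat_lit 337060) (nat_lit 0) .nil)))) (nat_lit 27663) (nat_lit 332931)
  (nat_lit 0) (.node (.node (.node (.node (.node .nil (nat_lit 27664) (nat_lit 5354) (nat_lit 0) .nil) (nat_lit 27677) (nat_lit 10501) (nat_lit 0) (.node .nil (nat_lit 27678) (nat_lit 0xa1a0a2)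
  (nat_lit 0) .nil)) (nat_lit 27687) (nat_lit 0xa21922) (nat_lit 0) (.node (.node .nil (nat_lit 27688) (nat_lit 337122) (nat_lit 0) .nil) (nat_lit 27818) (nat_lit 0x41a862) (nat_lit 0) (.node .nil
  (nat_lit 27819) (nat_lit 0x8351cc4) (nat_lit 0) .nil))) (nat_lit 27922) (nat_lit 0x12351cc4) (nat_lit 0) (.node (.node (.node .nil (nat_lit 27923) (nat_lit 0x91a862) (nat_lit 0) .nil) (nat_lit
  27944) (nat_lit 0x14451cc3) (nat_lit 0) (.node .nil (nat_lit 27945) (nat_lit 0x822862) (nat_lit 0) .nil)) (nat_lit 27962) (nat_lit 0x1d251a883) (nat_lit 108839) (.node (.node .nil (nat_lit 27963)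
  (nat_lit 0x73246a) (nat_lit 0) .nil) (nat_lit 27970) (nat_lit 0xa228e5) (nat_lit 0) .nil))) (nat_lit 27971) (nat_lit 0x74148a) (nat_lit 0) (.node (.node (.node (.node .nil (nat_lit 28008) (nat_lit
  0x620d47) (nat_lit 0) .nil) (nat_lit 28009) (nat_lit 0x188351883) (nat_lit 0) (.node .nil (nat_lit 28133) (nat_lit 0x66228c4) (nat_lit 0) .nil)) (nat_lit 28134) (nat_lit 0x450d42) (nat_lit 0) (.node
  (.node .nil (nat_lit 28237) (nat_lit 0xa22922) (nat_lit 0) .nil) (nat_lit 28238) (nat_lit 0xc91a8c4) (nat_lit 0) (.node .nil (nat_lit 28259) (nat_lit 0xa22882) (nat_lit 0) .nil))) (nat_lit 28260)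
  (nat_lit 0x146228c3) (nat_lit 0) (.node (.node (.node .nil (nat_lit 28277) (nat_lit 0x748d47) (nat_lit 0) .nil) (nat_lit 28278) (nat_lit 0x1d2351883) (nat_lit 108777) (.node .nil (nat_lit 28285)
  (nat_lit 0x829147) (nat_lit 0) .nil)) (nat_lit 28286) (nat_lit 0xa31145) (nat_lit 0) (.node (.node .nil (nat_lit 28323) (nat_lit 0xca451883) (nat_lit 0) .nil) (nat_lit 28324) (nat_lit 0x329147)
  (nat_lit 0) .nil))))))
def tK_4 : T := (.node (.node (.node (.node (.node (.node (.node .nil (nat_lit 28443) (nat_lit 0x8a32482) (nat_lit 0) .nil) (nat_lit 28560) (nat_lit 141476) (nat_lit 0) (.node .nil (nat_lit 28561)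
  (nat_lit 0x522861) (nat_lit 0) .nil)) (nat_lit 28562) (nat_lit 0x8a3a082) (nat_lit 0) (.node (.node .nil (nat_lit 28563) (nat_lit 0x4510c8) (nat_lit 0) .nil) (nat_lit 28604) (nat_lit 0x8a31062)
  (nat_lit 0) (.node .nil (nat_lit 28605) (nat_lit 141538) (nat_lit 0) .nil))) (nat_lit 28620) (nat_lit 0x451902) (nat_lit 0) (.node (.node (.node .nil (nat_lit 28621) (nat_lit 0x451468) (nat_lit 0)
  .nil) (nat_lit 28644) (nat_lit 0x8a224a2) (nat_lit 0) (.node .nil (nat_lit 28645) (nat_lit 141605) (nat_lit 0) .nil)) (nat_lit 28757) (nat_lit 0x8a49c82) (nat_lit 0) (.node (.node .nil (nat_lit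
  28758) (nat_lit 0x522923) (nat_lit 0) .nil) (nat_lit 28875) (nat_lit 168259) (nat_lit 0) .nil))) (nat_lit 28876) (nat_lit 0x451481) (nat_lit 0) (.node (.node (.node (.node .nil (nat_lit 28877)
  (nat_lit 0x4520e3) (nat_lit 0) .nil) (nat_lit 28878) (nat_lit 0x8a41882) (nat_lit 0) (.node .nil (nat_lit 28919) (nat_lit 201026) (nat_lit 0) .nil)) (nat_lit 28920) (nat_lit 0x8a19482) (nat_lit 0)
  (.node (.node .nil (nat_lit 28935) (nat_lit 0x450cc8) (nat_lit 0) .nil) (nat_lit 28936) (nat_lit 0x449d42) (nat_lit 0) (.node .nil (nat_lit 28959) (nat_lit 0x4524a1) (nat_lit 0) .nil))) (nat_lit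
  28960) (nat_lit 0x6a228a2) (nat_lit 0) (.node (.node (.node .nil (nat_lit 29070) (nat_lit 0xa452482) (nat_lit 0) .nil) (nat_lit 29071) (nat_lit 0x451923) (nat_lit 0) (.node .nil (nat_lit 29190)
  (nat_lit 0x4520a4) (nat_lit 0) .nil)) (nat_lit 29191) (nat_lit 0x451903) (nat_lit 0) (.node (.node .nil (nat_lit 29192) (nat_lit 141507) (nat_lit 0) .nil) (nat_lit 29193) (nat_lit 0x622882) (nat_lit
  0) .nil)))) (nat_lit 29226) (nat_lit 0x622922) (nat_lit 0) (.node (.node (.node (.node (.node .nil (nat_lit 29227) (nat_lit 0x451489) (nat_lit 0) .nil) (nat_lit 29234) (nat_lit 0xc450d02) (nat_lit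
  0) (.node .nil (nat_lit 29235) (nat_lit 0x4520e2) (nat_lit 0) .nil)) (nat_lit 29250) (nat_lit 0xa451062) (nat_lit 0) (.node (.node .nil (nat_lit 29251) (nat_lit 4421) (nat_lit 0) .nil) (nat_lit
  29385) (nat_lit 0x4524e3) (nat_lit 0) (.node .nil (nat_lit 29386) (nat_lit 0x8a49882) (nat_lit 0) .nil))) (nat_lit 29505) (nat_lit 0x449d43) (nat_lit 0) (.node (.node (.node .nil (nat_lit 29506)
  (nat_lit 0xa20d47) (nat_lit 0) .nil) (nat_lit 29507) (nat_lit 0x451c82) (nat_lit 0) (.node .nil (nat_lit 29508) (nat_lit 141413) (nat_lit 0) .nil)) (nat_lit 29541) (nat_lit 0x35148a) (nat_lit 0)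
  (.node (.node .nil (nat_lit 29542) (nat_lit 0x451d22) (nat_lit 0) .nil) (nat_lit 29549) (nat_lit 0x452047) (nat_lit 0) .nil))) (nat_lit 29550) (nat_lit 0x8a1a0e2) (nat_lit 0) (.node (.node (.node
  (.node .nil (nat_lit 29565) (nat_lit 141473) (nat_lit 0) .nil) (nat_lit 29566) (nat_lit 0x8a21862) (nat_lit 0) (.node .nil (nat_lit 29706) (nat_lit 141604) (nat_lit 0x3520c5) .nil)) (nat_lit 29707)
  (nat_lit 0x8a3a4a3) (nat_lit 0) (.node (.node .nil (nat_lit 29824) (nat_lit 0x531144) (nat_lit 134471) .nil) (nat_lit 29825) (nat_lit 0x451ca3) (nat_lit 0) (.node .nil (nat_lit 29826) (nat_lit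
  0x8a3a0a3) (nat_lit 0) .nil))) (nat_lit 29827) (nat_lit 0x893a8c4) (nat_lit 10473) (.node (.node (.node .nil (nat_lit 29846) (nat_lit 0xc450d06) (nat_lit 0) .nil) (nat_lit 29847) (nat_lit 4424)
  (nat_lit 0) (.node .nil (nat_lit 29870) (nat_lit 0x8a224c5) (nat_lit 0) .nil)) (nat_lit 29871) (nat_lit 0x622926) (nat_lit 0) (.node (.node .nil (nat_lit 29894) (nat_lit 201030) (nat_lit 0) .nil)
  (nat_lit 29895) (nat_lit 141443) (nat_lit 0) .nil))))) (nat_lit 30021) (nat_lit 0xc4524a3) (nat_lit 0) (.node (.node (.node (.node (.node (.node .nil (nat_lit 30022) (nat_lit 0x452481) (nat_lit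
  3400) .nil) (nat_lit 30139) (nat_lit 0x6228a3) (nat_lit 0) (.node .nil (nat_lit 30140) (nat_lit 0x5228e4) (nat_lit 200810) .nil)) (nat_lit 30141) (nat_lit 0x8a320c4) (nat_lit 10535) (.node (.node
  .nil (nat_lit 30142) (nat_lit 0x8a418a3) (nat_lit 0) .nil) (nat_lit 30161) (nat_lit 141569) (nat_lit 0) (.node .nil (nat_lit 30162) (nat_lit 0x8a1a0e6) (nat_lit 0) .nil))) (nat_lit 30185) (nat_lit
  0x451d26) (nat_lit 0) (.node (.node (.node .nil (nat_lit 30186) (nat_lit 0x6a228c5) (nat_lit 0) .nil) (nat_lit 30209) (nat_lit 336010) (nat_lit 0) (.node .nil (nat_lit 30210) (nat_lit 141542)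
  (nat_lit 0) .nil)) (nat_lit 30334) (nat_lit 0xa48d42) (nat_lit 0) (.node (.node .nil (nat_lit 30335) (nat_lit 0x8a324c4) (nat_lit 108744) .nil) (nat_lit 30454) (nat_lit 0x8a40c41) (nat_lit 0)
  .nil))) (nat_lit 30455) (nat_lit 0x8a418e4) (nat_lit 0) (.node (.node (.node (.node .nil (nat_lit 30456) (nat_lit 0x450c41) (nat_lit 0) .nil) (nat_lit 30457) (nat_lit 0x6228c4) (nat_lit 0) (.node
  .nil (nat_lit 30476) (nat_lit 0xa451883) (nat_lit 0) .nil)) (nat_lit 30477) (nat_lit 168263) (nat_lit 0) (.node (.node .nil (nat_lit 30516) (nat_lit 0x8a224e5) (nat_lit 0) .nil) (nat_lit 30517)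
  (nat_lit 0x451d27) (nat_lit 0) (.node .nil (nat_lit 30524) (nat_lit 0x8a1a0e5) (nat_lit 0) .nil))) (nat_lit 30525) (nat_lit 0x449d47) (nat_lit 0) (.node (.node (.node .nil (nat_lit 30649) (nat_lit
  0x8a49cc4) (nat_lit 108807) .nil) (nat_lit 30650) (nat_lit 0x452462) (nat_lit 0) (.node .nil (nat_lit 30769) (nat_lit 0x8a41cc4) (nat_lit 0) .nil)) (nat_lit 30770) (nat_lit 0x452062) (nat_lit 0)
  (.node (.node .nil (nat_lit 30771) (nat_lit 0x451cc4) (nat_lit 0) .nil) (nat_lit 30772) (nat_lit 141410) (nat_lit 0) .nil)))) (nat_lit 30791) (nat_lit 170122) (nat_lit 0) (.node (.node (.node (.node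
  (.node .nil (nat_lit 30792) (nat_lit 0x863a883) (nat_lit 0) .nil) (nat_lit 30831) (nat_lit 0x622927) (nat_lit 0) (.node .nil (nat_lit 30832) (nat_lit 0x6a228e5) (nat_lit 0) .nil)) (nat_lit 30839)
  (nat_lit 0x451907) (nat_lit 0) (.node (.node .nil (nat_lit 30840) (nat_lit 0xc450d05) (nat_lit 0) .nil) (nat_lit 30958) (nat_lit 332104) (nat_lit 0) (.node .nil (nat_lit 30959) (nat_lit 0xc41a8a3)
  (nat_lit 0) .nil))) (nat_lit 31072) (nat_lit 0x14451ca3) (nat_lit 0) (.node (.node (.node .nil (nat_lit 31073) (nat_lit 0x104518a3) (nat_lit 0) .nil) (nat_lit 31094) (nat_lit 0xc91a8a3) (nat_lit 0)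
  (.node .nil (nat_lit 31095) (nat_lit 0xe91a8e4) (nat_lit 0) .nil)) (nat_lit 31112) (nat_lit 0xa31146) (nat_lit 10440) (.node (.node .nil (nat_lit 31113) (nat_lit 266561) (nat_lit 0) .nil) (nat_lit
  31120) (nat_lit 0x91a8e6) (nat_lit 0) .nil))) (nat_lit 31121) (nat_lit 0xa22924) (nat_lit 3401) (.node (.node (.node (.node .nil (nat_lit 31150) (nat_lit 0x188351c83) (nat_lit 4423) .nil) (nat_lit
  31151) (nat_lit 0x329146) (nat_lit 0) (.node .nil (nat_lit 31273) (nat_lit 0x65228a3) (nat_lit 0) .nil)) (nat_lit 31274) (nat_lit 134468) (nat_lit 0) (.node (.node .nil (nat_lit 31387) (nat_lit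
  0x104514c3) (nat_lit 0) .nil) (nat_lit 31388) (nat_lit 0x146228a3) (nat_lit 0) (.node .nil (nat_lit 31409) (nat_lit 0xe648d44) (nat_lit 0) .nil))) (nat_lit 31410) (nat_lit 0x12351ca3) (nat_lit 0)
  (.node (.node (.node .nil (nat_lit 31427) (nat_lit 8330) (nat_lit 0) .nil) (nat_lit 31428) (nat_lit 0xa228e6) (nat_lit 10503) (.node .nil (nat_lit 31435) (nat_lit 0x91a883) (nat_lit 0x3524c5) .nil))
  (nat_lit 31436) (nat_lit 0x648d46) (nat_lit 0) (.node (.node .nil (nat_lit 31465) (nat_lit 0x620d46) (nat_lit 0) .nil) (nat_lit 31466) (nat_lit 0xca451c83) (nat_lit 5258) .nil))))))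
def tK_5 : T := (.node (.node (.node (.node (.node (.node (.node .nil (nat_lit 31585) (nat_lit 10500) (nat_lit 0) .nil) (nat_lit 31704) (nat_lit 0xa39924) (nat_lit 0) (.node .nil (nat_lit 31705)
  (nat_lit 0xa49ca3) (nat_lit 0) .nil)) (nat_lit 31720) (nat_lit 239812) (nat_lit 0) (.node (.node .nil (nat_lit 31721) (nat_lit 332995) (nat_lit 0) .nil) (nat_lit 31734) (nat_lit 10) (nat_lit 108741)
  (.node .nil (nat_lit 31735) (nat_lit 0xa39883) (nat_lit 0) .nil))) (nat_lit 31774) (nat_lit 10377) (nat_lit 0) (.node (.node (.node .nil (nat_lit 31775) (nat_lit 334118) (nat_lit 238698) .nil)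
  (nat_lit 31796) (nat_lit 0xa1a0c5) (nat_lit 0) (.node .nil (nat_lit 31797) (nat_lit 334086) (nat_lit 141607) .nil)) (nat_lit 31899) (nat_lit 336001) (nat_lit 0) (.node (.node .nil (nat_lit 31900)
  (nat_lit 0xa320a3) (nat_lit 0) .nil) (nat_lit 32019) (nat_lit 0xa324a3) (nat_lit 0) .nil))) (nat_lit 32020) (nat_lit 0xa3a4e4) (nat_lit 0) (.node (.node (.node (.node .nil (nat_lit 32035) (nat_lit
  333987) (nat_lit 0) .nil) (nat_lit 32036) (nat_lit 204100) (nat_lit 0) (.node .nil (nat_lit 32049) (nat_lit 0xa31c83) (nat_lit 0) .nil)) (nat_lit 32050) (nat_lit 321) (nat_lit 106) (.node (.node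
  .nil (nat_lit 32089) (nat_lit 337126) (nat_lit 298311) .nil) (nat_lit 32090) (nat_lit 332065) (nat_lit 0) (.node .nil (nat_lit 32111) (nat_lit 302406) (nat_lit 141545) .nil))) (nat_lit 32112)
  (nat_lit 0x750d05) (nat_lit 0) (.node (.node (.node .nil (nat_lit 32216) (nat_lit 331976) (nat_lit 0) .nil) (nat_lit 32217) (nat_lit 0xa3a082) (nat_lit 0) (.node .nil (nat_lit 32336) (nat_lit
  337091) (nat_lit 0) .nil)) (nat_lit 32337) (nat_lit 0xa32482) (nat_lit 0) (.node (.node .nil (nat_lit 32352) (nat_lit 239713) (nat_lit 0) .nil) (nat_lit 32353) (nat_lit 10404) (nat_lit 0) .nil))))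
  (nat_lit 32378) (nat_lit 332904) (nat_lit 0) (.node (.node (.node (.node (.node .nil (nat_lit 32379) (nat_lit 334082) (nat_lit 0) .nil) (nat_lit 32388) (nat_lit 10533) (nat_lit 0) (.node .nil
  (nat_lit 32389) (nat_lit 0xa224a2) (nat_lit 0) .nil)) (nat_lit 32412) (nat_lit 0xa31062) (nat_lit 0) (.node (.node .nil (nat_lit 32413) (nat_lit 10466) (nat_lit 0) .nil) (nat_lit 32531) (nat_lit
  0xa41882) (nat_lit 0) (.node .nil (nat_lit 32532) (nat_lit 336099) (nat_lit 0) .nil))) (nat_lit 32651) (nat_lit 0xa49c82) (nat_lit 0) (.node (.node (.node .nil (nat_lit 32652) (nat_lit 239907)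
  (nat_lit 0) .nil) (nat_lit 32667) (nat_lit 332929) (nat_lit 0) (.node .nil (nat_lit 32668) (nat_lit 7491) (nat_lit 0) .nil)) (nat_lit 32693) (nat_lit 302402) (nat_lit 0) (.node (.node .nil (nat_lit
  32694) (nat_lit 330952) (nat_lit 0) .nil) (nat_lit 32703) (nat_lit 0xa22445) (nat_lit 0) .nil))) (nat_lit 32704) (nat_lit 337057) (nat_lit 0) (.node (.node (.node (.node .nil (nat_lit 32727)
  (nat_lit 10311) (nat_lit 0) .nil) (nat_lit 32728) (nat_lit 0xa19482) (nat_lit 0) (.node .nil (nat_lit 32842) (nat_lit 0x41a8c3) (nat_lit 0) .nil)) (nat_lit 32843) (nat_lit 0x6622882) (nat_lit 0)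
  (.node (.node .nil (nat_lit 32968) (nat_lit 0x831143) (nat_lit 0) .nil) (nat_lit 32969) (nat_lit 0x14622862) (nat_lit 0) (.node .nil (nat_lit 32978) (nat_lit 0xa22927) (nat_lit 0) .nil))) (nat_lit
  32979) (nat_lit 0x91a8a4) (nat_lit 0) (.node (.node (.node .nil (nat_lit 33024) (nat_lit 134469) (nat_lit 0) .nil) (nat_lit 33025) (nat_lit 0xca451062) (nat_lit 0) (.node .nil (nat_lit 33026)
  (nat_lit 0x91a8e2) (nat_lit 0) .nil)) (nat_lit 33027) (nat_lit 0x246a31062) (nat_lit 0) (.node (.node .nil (nat_lit 33050) (nat_lit 0x83948a) (nat_lit 0) .nil) (nat_lit 33051) (nat_lit 0xa29141)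
  (nat_lit 0) .nil))))) (nat_lit 33157) (nat_lit 0x8351c82) (nat_lit 0) (.node (.node (.node (.node (.node (.node .nil (nat_lit 33158) (nat_lit 0x720d43) (nat_lit 0) .nil) (nat_lit 33283) (nat_lit
  0x14451c62) (nat_lit 0) (.node .nil (nat_lit 33284) (nat_lit 0x8228e3) (nat_lit 0) .nil)) (nat_lit 33293) (nat_lit 0x12351481) (nat_lit 0) (.node (.node .nil (nat_lit 33294) (nat_lit 0x748d43)
  (nat_lit 0) .nil) (nat_lit 33339) (nat_lit 0x188351062) (nat_lit 0) (.node .nil (nat_lit 33340) (nat_lit 0x41a8a1) (nat_lit 0) .nil))) (nat_lit 33341) (nat_lit 0x24a351062) (nat_lit 0) (.node (.node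
  (.node .nil (nat_lit 33342) (nat_lit 0x648d42) (nat_lit 0) .nil) (nat_lit 33365) (nat_lit 332938) (nat_lit 0) (.node .nil (nat_lit 33366) (nat_lit 0x829142) (nat_lit 0) .nil)) (nat_lit 36026)
  (nat_lit 0x3524e3) (nat_lit 0) (.node (.node .nil (nat_lit 36027) (nat_lit 0x6a49882) (nat_lit 0) .nil) (nat_lit 36028) (nat_lit 0x6a41481) (nat_lit 0) .nil))) (nat_lit 36029) (nat_lit 0x51a903)
  (nat_lit 0) (.node (.node (.node (.node .nil (nat_lit 36030) (nat_lit 0x351c82) (nat_lit 0) .nil) (nat_lit 36031) (nat_lit 167235) (nat_lit 10469) (.node .nil (nat_lit 36154) (nat_lit 0x931142)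
  (nat_lit 0) .nil)) (nat_lit 36155) (nat_lit 0x6a1a0e2) (nat_lit 0) (.node (.node .nil (nat_lit 36162) (nat_lit 0x351d22) (nat_lit 0) .nil) (nat_lit 36163) (nat_lit 0x45148a) (nat_lit 0) (.node .nil
  (nat_lit 36202) (nat_lit 108705) (nat_lit 0) .nil))) (nat_lit 36203) (nat_lit 0x6a21862) (nat_lit 0) (.node (.node (.node .nil (nat_lit 36341) (nat_lit 0x6752482) (nat_lit 0) .nil) (nat_lit 36342)
  (nat_lit 0x351923) (nat_lit 0) (.node .nil (nat_lit 36343) (nat_lit 0x351903) (nat_lit 0) .nil)) (nat_lit 36344) (nat_lit 0x3520a4) (nat_lit 0) (.node (.node .nil (nat_lit 36345) (nat_lit 108739)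
  (nat_lit 7493) .nil) (nat_lit 36346) (nat_lit 0x3508e4) (nat_lit 0) .nil)))) (nat_lit 36469) (nat_lit 0x143520e2) (nat_lit 0) (.node (.node (.node (.node (.node .nil (nat_lit 36470) (nat_lit
  0x3520e2) (nat_lit 0) .nil) (nat_lit 36477) (nat_lit 0x351489) (nat_lit 0) (.node .nil (nat_lit 36478) (nat_lit 0x3508e9) (nat_lit 0) .nil)) (nat_lit 36517) (nat_lit 0x6751062) (nat_lit 0) (.node
  (.node .nil (nat_lit 36518) (nat_lit 3397) (nat_lit 0) .nil) (nat_lit 36654) (nat_lit 0x6a32482) (nat_lit 0) (.node .nil (nat_lit 36655) (nat_lit 0x3524c3) (nat_lit 0) .nil))) (nat_lit 36658)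
  (nat_lit 331079) (nat_lit 0) (.node (.node (.node .nil (nat_lit 36659) (nat_lit 108708) (nat_lit 0) .nil) (nat_lit 36660) (nat_lit 0x6a3a082) (nat_lit 0) (.node .nil (nat_lit 36661) (nat_lit
  0x931143) (nat_lit 0x829145) .nil)) (nat_lit 36784) (nat_lit 0x6a31062) (nat_lit 0) (.node (.node .nil (nat_lit 36785) (nat_lit 108770) (nat_lit 0) .nil) (nat_lit 36808) (nat_lit 108837) (nat_lit 0)
  .nil))) (nat_lit 36809) (nat_lit 0x6a224a2) (nat_lit 0) (.node (.node (.node (.node .nil (nat_lit 36832) (nat_lit 0x351902) (nat_lit 0) .nil) (nat_lit 36833) (nat_lit 0x351468) (nat_lit 0) (.node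
  .nil (nat_lit 36969) (nat_lit 0x33a923) (nat_lit 0) .nil)) (nat_lit 36970) (nat_lit 0x6a49c82) (nat_lit 0) (.node (.node .nil (nat_lit 36973) (nat_lit 0x351481) (nat_lit 0) .nil) (nat_lit 36974)
  (nat_lit 105795) (nat_lit 0) (.node .nil (nat_lit 36975) (nat_lit 0x3520e3) (nat_lit 0x8228e5) .nil))) (nat_lit 36976) (nat_lit 0x6a41882) (nat_lit 0) (.node (.node (.node .nil (nat_lit 37099)
  (nat_lit 108615) (nat_lit 0) .nil) (nat_lit 37100) (nat_lit 0xa351062) (nat_lit 0) (.node .nil (nat_lit 37123) (nat_lit 0x8a228a2) (nat_lit 0) .nil)) (nat_lit 37124) (nat_lit 0x3524a1) (nat_lit 0)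
  (.node (.node .nil (nat_lit 37147) (nat_lit 0x350cc8) (nat_lit 0) .nil) (nat_lit 37148) (nat_lit 0x51a902) (nat_lit 0) .nil))))))
def tK_6 : T := (.node (.node (.node (.node (.node (.node (.node .nil (nat_lit 37285) (nat_lit 0xa352082) (nat_lit 0) .nil) (nat_lit 37286) (nat_lit 0x33a882) (nat_lit 0) (.node .nil (nat_lit 37287)
  (nat_lit 0x351462) (nat_lit 326) .nil)) (nat_lit 37290) (nat_lit 0x6a3a482) (nat_lit 0) (.node (.node .nil (nat_lit 37291) (nat_lit 0x6a49462) (nat_lit 141574) .nil) (nat_lit 37422) (nat_lit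
  0x6a39062) (nat_lit 0) (.node .nil (nat_lit 37423) (nat_lit 167234) (nat_lit 0) .nil))) (nat_lit 37438) (nat_lit 0x143520c2) (nat_lit 0) (.node (.node (.node .nil (nat_lit 37439) (nat_lit 0x351d02)
  (nat_lit 0) .nil) (nat_lit 37462) (nat_lit 0x33a922) (nat_lit 0) (.node .nil (nat_lit 37463) (nat_lit 0x8a228c2) (nat_lit 0) .nil)) (nat_lit 37599) (nat_lit 0x6a32082) (nat_lit 0) (.node (.node .nil
  (nat_lit 37600) (nat_lit 0x6a40cc2) (nat_lit 266565) .nil) (nat_lit 37601) (nat_lit 0x350cc2) (nat_lit 325) .nil))) (nat_lit 37602) (nat_lit 0x3510c2) (nat_lit 0) (.node (.node (.node (.node .nil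
  (nat_lit 37605) (nat_lit 0x6a48cc2) (nat_lit 141573) .nil) (nat_lit 37606) (nat_lit 0x6a490c2) (nat_lit 0) (.node .nil (nat_lit 37737) (nat_lit 108738) (nat_lit 0) .nil)) (nat_lit 37738) (nat_lit
  0xea1a882) (nat_lit 0) (.node (.node .nil (nat_lit 37753) (nat_lit 0x3520c2) (nat_lit 0) .nil) (nat_lit 37754) (nat_lit 0x6a1a0c2) (nat_lit 0) (.node .nil (nat_lit 37777) (nat_lit 0x6a224c2)
  (nat_lit 0) .nil))) (nat_lit 37778) (nat_lit 0x3524c2) (nat_lit 0) (.node (.node (.node .nil (nat_lit 37914) (nat_lit 239722) (nat_lit 0) .nil) (nat_lit 37915) (nat_lit 0x51a882) (nat_lit 0) (.node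
  .nil (nat_lit 37916) (nat_lit 0x3520c3) (nat_lit 0) .nil)) (nat_lit 37917) (nat_lit 0x12622882) (nat_lit 0) (.node (.node .nil (nat_lit 37918) (nat_lit 0x6a3a461) (nat_lit 0x451905) .nil) (nat_lit
  37919) (nat_lit 0x3524a4) (nat_lit 0) .nil)))) (nat_lit 38044) (nat_lit 0x8a228e2) (nat_lit 0) (.node (.node (.node (.node (.node .nil (nat_lit 38045) (nat_lit 0x3524e2) (nat_lit 0) .nil) (nat_lit
  38052) (nat_lit 108805) (nat_lit 0) (.node .nil (nat_lit 38053) (nat_lit 0x6a1a0a2) (nat_lit 0) .nil)) (nat_lit 38068) (nat_lit 0x351483) (nat_lit 0) (.node (.node .nil (nat_lit 38069) (nat_lit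
  103658) (nat_lit 0) .nil) (nat_lit 38229) (nat_lit 0x351882) (nat_lit 0) (.node .nil (nat_lit 38230) (nat_lit 108771) (nat_lit 0) .nil))) (nat_lit 38231) (nat_lit 0x6a41c82) (nat_lit 0) (.node
  (.node (.node .nil (nat_lit 38232) (nat_lit 0x351d03) (nat_lit 0) .nil) (nat_lit 38233) (nat_lit 0xa1a927) (nat_lit 0) (.node .nil (nat_lit 38234) (nat_lit 0x351d23) (nat_lit 0x4520e5) .nil))
  (nat_lit 38359) (nat_lit 0x351922) (nat_lit 0) (.node (.node .nil (nat_lit 38360) (nat_lit 0x6a224e2) (nat_lit 0) .nil) (nat_lit 38367) (nat_lit 0x143520a2) (nat_lit 0) .nil))) (nat_lit 38368)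
  (nat_lit 0x3520a1) (nat_lit 0) (.node (.node (.node (.node .nil (nat_lit 38383) (nat_lit 105794) (nat_lit 0) .nil) (nat_lit 38384) (nat_lit 0x350cc4) (nat_lit 0) (.node .nil (nat_lit 58778) (nat_lit
  0x6a3a4a3) (nat_lit 0) .nil)) (nat_lit 58779) (nat_lit 108836) (nat_lit 0) (.node (.node .nil (nat_lit 58780) (nat_lit 0x6a3a0a3) (nat_lit 0) .nil) (nat_lit 58781) (nat_lit 0xa3520c4) (nat_lit 0)
  (.node .nil (nat_lit 58782) (nat_lit 0x351ca3) (nat_lit 0) .nil))) (nat_lit 58783) (nat_lit 0x719d44) (nat_lit 0) (.node (.node (.node .nil (nat_lit 58828) (nat_lit 0x6a224c5) (nat_lit 0) .nil)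
  (nat_lit 58829) (nat_lit 0x719d49) (nat_lit 0) (.node .nil (nat_lit 58852) (nat_lit 3400) (nat_lit 0) .nil)) (nat_lit 58853) (nat_lit 0x143520e6) (nat_lit 0) (.node (.node .nil (nat_lit 58868)
  (nat_lit 108675) (nat_lit 0) .nil) (nat_lit 58869) (nat_lit 108743) (nat_lit 0) .nil))))) (nat_lit 59093) (nat_lit 331081) (nat_lit 0) (.node (.node (.node (.node (.node (.node .nil (nat_lit 59094)
  (nat_lit 0x6a29d23) (nat_lit 0) .nil) (nat_lit 59095) (nat_lit 0x6a320c4) (nat_lit 0) (.node .nil (nat_lit 59096) (nat_lit 0x6a418a3) (nat_lit 0) .nil)) (nat_lit 59097) (nat_lit 0x33a8e4) (nat_lit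
  0) (.node (.node .nil (nat_lit 59098) (nat_lit 0x3514e3) (nat_lit 0) .nil) (nat_lit 59143) (nat_lit 0x351d26) (nat_lit 0) (.node .nil (nat_lit 59144) (nat_lit 0x8a228c5) (nat_lit 0) .nil))) (nat_lit
  59167) (nat_lit 0x6a1a0e6) (nat_lit 0) (.node (.node (.node .nil (nat_lit 59168) (nat_lit 108801) (nat_lit 0) .nil) (nat_lit 59183) (nat_lit 108774) (nat_lit 0) (.node .nil (nat_lit 59184) (nat_lit
  331076) (nat_lit 0) .nil)) (nat_lit 59406) (nat_lit 0x6a49cc4) (nat_lit 0) (.node (.node .nil (nat_lit 59407) (nat_lit 0x352462) (nat_lit 0) .nil) (nat_lit 59410) (nat_lit 0x351cc4) (nat_lit 0)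
  .nil))) (nat_lit 59411) (nat_lit 108642) (nat_lit 0) (.node (.node (.node (.node .nil (nat_lit 59412) (nat_lit 0x352062) (nat_lit 0) .nil) (nat_lit 59413) (nat_lit 0x6a41cc4) (nat_lit 0) (.node .nil
  (nat_lit 59482) (nat_lit 0x663a883) (nat_lit 0) .nil)) (nat_lit 59483) (nat_lit 232682) (nat_lit 0) (.node (.node .nil (nat_lit 59498) (nat_lit 0x143520e5) (nat_lit 0) .nil) (nat_lit 59499) (nat_lit
  0x351907) (nat_lit 0) (.node .nil (nat_lit 59506) (nat_lit 0x351cc9) (nat_lit 0) .nil))) (nat_lit 59507) (nat_lit 0x8a228e5) (nat_lit 0) (.node (.node (.node .nil (nat_lit 59721) (nat_lit 0x61a923)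
  (nat_lit 0) .nil) (nat_lit 59722) (nat_lit 0x6a324c4) (nat_lit 0) (.node .nil (nat_lit 59725) (nat_lit 331074) (nat_lit 0) .nil)) (nat_lit 59726) (nat_lit 0x3518e4) (nat_lit 0) (.node (.node .nil
  (nat_lit 59727) (nat_lit 0x126228c4) (nat_lit 0) .nil) (nat_lit 59728) (nat_lit 0x61a903) (nat_lit 0) .nil)))) (nat_lit 59797) (nat_lit 105799) (nat_lit 0) (.node (.node (.node (.node (.node .nil
  (nat_lit 59798) (nat_lit 0x6751883) (nat_lit 0) .nil) (nat_lit 59813) (nat_lit 0x51a907) (nat_lit 0) (.node .nil (nat_lit 59814) (nat_lit 0x6a1a0e5) (nat_lit 0) .nil)) (nat_lit 59821) (nat_lit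
  0x6a224e5) (nat_lit 0) (.node (.node .nil (nat_lit 59822) (nat_lit 0x351d27) (nat_lit 0) .nil) (nat_lit 60036) (nat_lit 0x6a320e4) (nat_lit 0) (.node .nil (nat_lit 60037) (nat_lit 0x6a41ca3)
  (nat_lit 0) .nil))) (nat_lit 60038) (nat_lit 0x33a8a3) (nat_lit 0) (.node (.node (.node .nil (nat_lit 60039) (nat_lit 3396) (nat_lit 0) .nil) (nat_lit 60042) (nat_lit 0x6a3a4c4) (nat_lit 0) (.node
  .nil (nat_lit 60043) (nat_lit 0x67524a3) (nat_lit 0) .nil)) (nat_lit 60088) (nat_lit 0x6751c83) (nat_lit 0) (.node (.node .nil (nat_lit 60089) (nat_lit 104682) (nat_lit 0) .nil) (nat_lit 60128)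
  (nat_lit 3401) (nat_lit 0) .nil))) (nat_lit 60129) (nat_lit 0x8a228e6) (nat_lit 0) (.node (.node (.node (.node .nil (nat_lit 60136) (nat_lit 0x931146) (nat_lit 0) .nil) (nat_lit 60137) (nat_lit
  108648) (nat_lit 0) (.node .nil (nat_lit 60351) (nat_lit 0x126228a3) (nat_lit 0) .nil)) (nat_lit 60352) (nat_lit 0xa3520e4) (nat_lit 0) (.node (.node .nil (nat_lit 60353) (nat_lit 108673) (nat_lit
  0) .nil) (nat_lit 60354) (nat_lit 0x311d43) (nat_lit 0) (.node .nil (nat_lit 60357) (nat_lit 0x6a498a3) (nat_lit 0) .nil))) (nat_lit 60358) (nat_lit 0xe33a924) (nat_lit 0) (.node (.node (.node .nil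
  (nat_lit 60403) (nat_lit 105798) (nat_lit 0) .nil) (nat_lit 60404) (nat_lit 0xe33a883) (nat_lit 0) (.node .nil (nat_lit 60443) (nat_lit 0x6a224e6) (nat_lit 0) .nil)) (nat_lit 60444) (nat_lit 108833)
  (nat_lit 0) (.node (.node .nil (nat_lit 60451) (nat_lit 331080) (nat_lit 0) .nil) (nat_lit 60452) (nat_lit 0x3520e6) (nat_lit 0) .nil))))))
def tK_7 : T := (.node (.node (.node (.node (.node (.node (.node .nil (nat_lit 60667) (nat_lit 0x3518a3) (nat_lit 0) .nil) (nat_lit 60668) (nat_lit 0x352081) (nat_lit 0) (.node .nil (nat_lit 60669)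
  (nat_lit 0x6a320a3) (nat_lit 0) .nil)) (nat_lit 60670) (nat_lit 0x6a324a3) (nat_lit 0) (.node (.node .nil (nat_lit 60671) (nat_lit 0x6a3a4e4) (nat_lit 0) .nil) (nat_lit 60718) (nat_lit 0x51a906)
  (nat_lit 0) (.node .nil (nat_lit 60719) (nat_lit 0x143520c5) (nat_lit 0) .nil))) (nat_lit 60742) (nat_lit 0x3524e6) (nat_lit 0) (.node (.node (.node .nil (nat_lit 60743) (nat_lit 141450) (nat_lit 0)
  .nil) (nat_lit 60766) (nat_lit 3393) (nat_lit 0) (.node .nil (nat_lit 60767) (nat_lit 0x6a31c83) (nat_lit 0) .nil)) (nat_lit 60981) (nat_lit 0x51a8a3) (nat_lit 0) (.node (.node .nil (nat_lit 60982)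
  (nat_lit 0x33a8c4) (nat_lit 0) .nil) (nat_lit 60983) (nat_lit 0xa3520a3) (nat_lit 0) .nil))) (nat_lit 60984) (nat_lit 108804) (nat_lit 0) (.node (.node (.node (.node .nil (nat_lit 60985) (nat_lit
  0x6a39924) (nat_lit 0) .nil) (nat_lit 60986) (nat_lit 0x6a49ca3) (nat_lit 0) (.node .nil (nat_lit 61033) (nat_lit 0x6a1a0c5) (nat_lit 0) .nil)) (nat_lit 61034) (nat_lit 0x351906) (nat_lit 0) (.node
  (.node .nil (nat_lit 61057) (nat_lit 108681) (nat_lit 0) .nil) (nat_lit 61058) (nat_lit 0x351926) (nat_lit 0) (.node .nil (nat_lit 61081) (nat_lit 0x6a39883) (nat_lit 0) .nil))) (nat_lit 61082)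
  (nat_lit 106) (nat_lit 0) (.node (.node (.node .nil (nat_lit 63718) (nat_lit 0xe91a8a3) (nat_lit 0) .nil) (nat_lit 63719) (nat_lit 298308) (nat_lit 0) (.node .nil (nat_lit 63728) (nat_lit
  0x10451ca3) (nat_lit 0) .nil)) (nat_lit 63729) (nat_lit 0x144518a3) (nat_lit 0) (.node (.node .nil (nat_lit 63854) (nat_lit 0xe41a8a3) (nat_lit 0) .nil) (nat_lit 63855) (nat_lit 0x65228c4) (nat_lit
  0) .nil)))) (nat_lit 63880) (nat_lit 4202) (nat_lit 0) (.node (.node (.node (.node (.node .nil (nat_lit 63881) (nat_lit 0x106a39883) (nat_lit 0) .nil) (nat_lit 63910) (nat_lit 0x74946a) (nat_lit 0)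
  (.node .nil (nat_lit 63911) (nat_lit 0x1d2351c83) (nat_lit 0) .nil)) (nat_lit 63918) (nat_lit 0x831146) (nat_lit 0) (.node (.node .nil (nat_lit 63919) (nat_lit 332097) (nat_lit 336069) .nil)
  (nat_lit 64033) (nat_lit 0x91a881) (nat_lit 0) (.node .nil (nat_lit 64034) (nat_lit 0x4748d43) (nat_lit 0) .nil))) (nat_lit 64043) (nat_lit 0xea228a3) (nat_lit 0) (.node (.node (.node .nil (nat_lit
  64044) (nat_lit 0x106228a3) (nat_lit 0) .nil) (nat_lit 64169) (nat_lit 0xc41a8c4) (nat_lit 0) (.node .nil (nat_lit 64170) (nat_lit 0x83518a3) (nat_lit 0) .nil)) (nat_lit 64195) (nat_lit 0xcc451883)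
  (nat_lit 0) (.node (.node .nil (nat_lit 64196) (nat_lit 134465) (nat_lit 0) .nil) (nat_lit 64225) (nat_lit 0x1cc91a883) (nat_lit 0) .nil))) (nat_lit 64226) (nat_lit 0x748d46) (nat_lit 0) (.node
  (.node (.node (.node .nil (nat_lit 64233) (nat_lit 10378) (nat_lit 328) .nil) (nat_lit 64234) (nat_lit 0x8228e6) (nat_lit 0) (.node .nil (nat_lit 64344) (nat_lit 239779) (nat_lit 0) .nil)) (nat_lit
  64345) (nat_lit 324) (nat_lit 0) (.node (.node .nil (nat_lit 64360) (nat_lit 0x7524a3) (nat_lit 0) .nil) (nat_lit 64361) (nat_lit 0xa3a4c4) (nat_lit 0) (.node .nil (nat_lit 64480) (nat_lit 0xa41ca3)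
  (nat_lit 0) .nil))) (nat_lit 64481) (nat_lit 0xa320e4) (nat_lit 0) (.node (.node (.node .nil (nat_lit 64494) (nat_lit 10344) (nat_lit 0) .nil) (nat_lit 64495) (nat_lit 336071) (nat_lit 0) (.node
  .nil (nat_lit 64516) (nat_lit 329) (nat_lit 0x91a8c5) .nil)) (nat_lit 64517) (nat_lit 0xa21926) (nat_lit 0) (.node (.node .nil (nat_lit 64556) (nat_lit 0x751c83) (nat_lit 0) .nil) (nat_lit 64557)
  (nat_lit 6378) (nat_lit 0) .nil))))) (nat_lit 64659) (nat_lit 10369) (nat_lit 0) (.node (.node (.node (.node (.node (.node .nil (nat_lit 64660) (nat_lit 73027) (nat_lit 0) .nil) (nat_lit 64675)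
  (nat_lit 0x831d44) (nat_lit 0) (.node .nil (nat_lit 64676) (nat_lit 0xa498a3) (nat_lit 0) .nil)) (nat_lit 64795) (nat_lit 0x93a8e4) (nat_lit 0) (.node (.node .nil (nat_lit 64796) (nat_lit 0xa414e3)
  (nat_lit 0) .nil) (nat_lit 64809) (nat_lit 336102) (nat_lit 0) (.node .nil (nat_lit 64810) (nat_lit 331009) (nat_lit 0) .nil))) (nat_lit 64831) (nat_lit 0xa224e6) (nat_lit 0) (.node (.node (.node
  .nil (nat_lit 64832) (nat_lit 10529) (nat_lit 9322) .nil) (nat_lit 64871) (nat_lit 7494) (nat_lit 0) (.node .nil (nat_lit 64872) (nat_lit 0xa218a3) (nat_lit 0) .nil)) (nat_lit 64976) (nat_lit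
  329956) (nat_lit 0) (.node (.node .nil (nat_lit 64977) (nat_lit 10435) (nat_lit 0) .nil) (nat_lit 64992) (nat_lit 0x752482) (nat_lit 0) .nil))) (nat_lit 64993) (nat_lit 334115) (nat_lit 0) (.node
  (.node (.node (.node .nil (nat_lit 65112) (nat_lit 334083) (nat_lit 0) .nil) (nat_lit 65113) (nat_lit 336036) (nat_lit 0) (.node .nil (nat_lit 65138) (nat_lit 325) (nat_lit 0) .nil)) (nat_lit 65139)
  (nat_lit 0x751062) (nat_lit 0) (.node (.node .nil (nat_lit 65162) (nat_lit 332937) (nat_lit 0) .nil) (nat_lit 65163) (nat_lit 329961) (nat_lit 0) (.node .nil (nat_lit 65172) (nat_lit 0xa1a047)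
  (nat_lit 0) .nil))) (nat_lit 65173) (nat_lit 336098) (nat_lit 0) (.node (.node (.node .nil (nat_lit 65291) (nat_lit 10341) (nat_lit 0) .nil) (nat_lit 65292) (nat_lit 334978) (nat_lit 0) (.node .nil
  (nat_lit 65307) (nat_lit 337123) (nat_lit 0) .nil)) (nat_lit 65308) (nat_lit 0xa49882) (nat_lit 0) (.node (.node .nil (nat_lit 65427) (nat_lit 0xa41481) (nat_lit 0) .nil) (nat_lit 65428) (nat_lit
  302403) (nat_lit 0) .nil)))) (nat_lit 65453) (nat_lit 0xa21862) (nat_lit 0) (.node (.node (.node (.node (.node .nil (nat_lit 65454) (nat_lit 10401) (nat_lit 0) .nil) (nat_lit 65477) (nat_lit 335138)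
  (nat_lit 0) (.node .nil (nat_lit 65478) (nat_lit 0xa29121) (nat_lit 0) .nil)) (nat_lit 65487) (nat_lit 335943) (nat_lit 0) (.node (.node .nil (nat_lit 65488) (nat_lit 0xa1a0e2) (nat_lit 0) .nil)
  (nat_lit 65602) (nat_lit 0x91a8e3) (nat_lit 0) (.node .nil (nat_lit 65603) (nat_lit 0x12351882) (nat_lit 0) .nil))) (nat_lit 65624) (nat_lit 0x14451862) (nat_lit 0) (.node (.node (.node .nil
  (nat_lit 65625) (nat_lit 0xa31144) (nat_lit 0) .nil) (nat_lit 65738) (nat_lit 0xa22907) (nat_lit 0) (.node .nil (nat_lit 65739) (nat_lit 0x329143) (nat_lit 0) .nil)) (nat_lit 65760) (nat_lit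
  0xa228a2) (nat_lit 0) (.node (.node .nil (nat_lit 65761) (nat_lit 0x8228a1) (nat_lit 0) .nil) (nat_lit 65784) (nat_lit 0x748d42) (nat_lit 0) .nil))) (nat_lit 65785) (nat_lit 0x12350cc4) (nat_lit 0)
  (.node (.node (.node (.node .nil (nat_lit 65786) (nat_lit 0x1c8351062) (nat_lit 0) .nil) (nat_lit 65787) (nat_lit 0x331142) (nat_lit 0) (.node .nil (nat_lit 65917) (nat_lit 0x1251a882) (nat_lit 0)
  .nil)) (nat_lit 65918) (nat_lit 0x648d43) (nat_lit 0) (.node (.node .nil (nat_lit 65939) (nat_lit 0x8228c3) (nat_lit 0) .nil) (nat_lit 65940) (nat_lit 0xea22862) (nat_lit 0) (.node .nil (nat_lit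
  66053) (nat_lit 0x620d43) (nat_lit 0) .nil))) (nat_lit 66054) (nat_lit 0x41a8a4) (nat_lit 0) (.node (.node (.node .nil (nat_lit 66075) (nat_lit 266565) (nat_lit 0) .nil) (nat_lit 66076) (nat_lit
  0xa22845) (nat_lit 0) (.node .nil (nat_lit 66099) (nat_lit 0x12351483) (nat_lit 0) .nil)) (nat_lit 66100) (nat_lit 0x74986a) (nat_lit 0) (.node (.node .nil (nat_lit 66101) (nat_lit 0x41a8e2)
  (nat_lit 0) .nil) (nat_lit 66102) (nat_lit 0x106a31062) (nat_lit 0) .nil))))))
def tK_8 : T := (.node (.node (.node (.node (.node (.node (.node .nil (nat_lit 66241) (nat_lit 0x4510c2) (nat_lit 0) .nil) (nat_lit 66242) (nat_lit 0x8a40cc2) (nat_lit 0) (.node .nil (nat_lit 66243)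
  (nat_lit 0x8a32082) (nat_lit 0) .nil)) (nat_lit 66362) (nat_lit 0x8a48cc2) (nat_lit 0) (.node (.node .nil (nat_lit 66363) (nat_lit 0xc452482) (nat_lit 0) .nil) (nat_lit 66396) (nat_lit 0xc451062)
  (nat_lit 0) (.node .nil (nat_lit 66397) (nat_lit 141506) (nat_lit 0) .nil))) (nat_lit 66420) (nat_lit 0x8a224c2) (nat_lit 0) (.node (.node (.node .nil (nat_lit 66421) (nat_lit 0x4524c2) (nat_lit 0)
  .nil) (nat_lit 66444) (nat_lit 0x8a1a0c2) (nat_lit 0) (.node .nil (nat_lit 66445) (nat_lit 0x4520c2) (nat_lit 0) .nil)) (nat_lit 66555) (nat_lit 0x522882) (nat_lit 0) (.node (.node .nil (nat_lit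
  66556) (nat_lit 0x451462) (nat_lit 0) .nil) (nat_lit 66557) (nat_lit 0x893a882) (nat_lit 0) .nil))) (nat_lit 66558) (nat_lit 0x8a41462) (nat_lit 0) (.node (.node (.node (.node .nil (nat_lit 66677)
  (nat_lit 0x8a3a482) (nat_lit 0) .nil) (nat_lit 66678) (nat_lit 0x8a49462) (nat_lit 0) (.node .nil (nat_lit 66711) (nat_lit 141382) (nat_lit 0) .nil)) (nat_lit 66712) (nat_lit 0x8a39062) (nat_lit 0)
  (.node (.node .nil (nat_lit 66735) (nat_lit 0x522922) (nat_lit 0) .nil) (nat_lit 66736) (nat_lit 0x6a228c2) (nat_lit 0) (.node .nil (nat_lit 66759) (nat_lit 0x451d02) (nat_lit 0) .nil))) (nat_lit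
  66760) (nat_lit 0xa450d02) (nat_lit 0) (.node (.node (.node .nil (nat_lit 66870) (nat_lit 0x4520c3) (nat_lit 0) .nil) (nat_lit 66871) (nat_lit 0x1441a8a2) (nat_lit 0) (.node .nil (nat_lit 66872)
  (nat_lit 0x4508c4) (nat_lit 0) .nil)) (nat_lit 66873) (nat_lit 201027) (nat_lit 0) (.node (.node .nil (nat_lit 66990) (nat_lit 0x4524a4) (nat_lit 0) .nil) (nat_lit 66991) (nat_lit 0x622923) (nat_lit
  0) .nil)))) (nat_lit 67026) (nat_lit 0x8a1a0a2) (nat_lit 0) (.node (.node (.node (.node (.node .nil (nat_lit 67027) (nat_lit 141573) (nat_lit 0) .nil) (nat_lit 67034) (nat_lit 0x6a228e2) (nat_lit 0)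
  (.node .nil (nat_lit 67035) (nat_lit 0x4524e2) (nat_lit 0) .nil)) (nat_lit 67074) (nat_lit 234634) (nat_lit 0) (.node (.node .nil (nat_lit 67075) (nat_lit 0x451483) (nat_lit 0) .nil) (nat_lit 67185)
  (nat_lit 0x8a41c82) (nat_lit 0) (.node .nil (nat_lit 67186) (nat_lit 0x451d03) (nat_lit 0) .nil))) (nat_lit 67187) (nat_lit 141539) (nat_lit 0) (.node (.node (.node .nil (nat_lit 67188) (nat_lit
  0x451882) (nat_lit 0) .nil) (nat_lit 67305) (nat_lit 0x451d23) (nat_lit 0) (.node .nil (nat_lit 67306) (nat_lit 0x450cc9) (nat_lit 0) .nil)) (nat_lit 67341) (nat_lit 0x4520a1) (nat_lit 0) (.node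
  (.node .nil (nat_lit 67342) (nat_lit 0x8a30d02) (nat_lit 0) .nil) (nat_lit 67349) (nat_lit 0x451922) (nat_lit 0) .nil))) (nat_lit 67350) (nat_lit 0x8a224e2) (nat_lit 0) (.node (.node (.node (.node
  .nil (nat_lit 67389) (nat_lit 0x450cc4) (nat_lit 0) .nil) (nat_lit 67390) (nat_lit 168258) (nat_lit 0) (.node .nil (nat_lit 67504) (nat_lit 0x4514c3) (nat_lit 0) .nil)) (nat_lit 67505) (nat_lit
  0x5228c4) (nat_lit 0) (.node (.node .nil (nat_lit 67506) (nat_lit 141572) (nat_lit 337093) .nil) (nat_lit 67507) (nat_lit 0x893a8a3) (nat_lit 0) (.node .nil (nat_lit 67626) (nat_lit 0xc4524e4)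
  (nat_lit 0) .nil))) (nat_lit 67627) (nat_lit 0x8a49ca3) (nat_lit 0) (.node (.node (.node .nil (nat_lit 67646) (nat_lit 0x451926) (nat_lit 0) .nil) (nat_lit 67647) (nat_lit 141449) (nat_lit 0) (.node
  .nil (nat_lit 67670) (nat_lit 0x8a1a0c5) (nat_lit 0) .nil)) (nat_lit 67671) (nat_lit 0x451906) (nat_lit 0) (.node (.node .nil (nat_lit 67686) (nat_lit 0x8a39883) (nat_lit 0) .nil) (nat_lit 67687)
  (nat_lit 138) (nat_lit 0) .nil))))) (nat_lit 67819) (nat_lit 0x431d44) (nat_lit 0) (.node (.node (.node (.node (.node (.node .nil (nat_lit 67820) (nat_lit 0x4518a3) (nat_lit 0) .nil) (nat_lit 67821)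
  (nat_lit 0x8a320a3) (nat_lit 0) (.node .nil (nat_lit 67822) (nat_lit 331882) (nat_lit 329) .nil)) (nat_lit 67941) (nat_lit 0x8a324a3) (nat_lit 0) (.node (.node .nil (nat_lit 67942) (nat_lit
  0x8a3a4e4) (nat_lit 0) .nil) (nat_lit 67961) (nat_lit 108682) (nat_lit 0) (.node .nil (nat_lit 67962) (nat_lit 0x4524e6) (nat_lit 0) .nil))) (nat_lit 67985) (nat_lit 0x449d46) (nat_lit 0) (.node
  (.node (.node .nil (nat_lit 67986) (nat_lit 0xa450d05) (nat_lit 0) .nil) (nat_lit 68001) (nat_lit 4417) (nat_lit 0) (.node .nil (nat_lit 68002) (nat_lit 0xc451883) (nat_lit 0) .nil)) (nat_lit 68134)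
  (nat_lit 0x8a320e4) (nat_lit 0) (.node (.node .nil (nat_lit 68135) (nat_lit 0x8a41ca3) (nat_lit 0) .nil) (nat_lit 68136) (nat_lit 4420) (nat_lit 0x41a8c5) .nil))) (nat_lit 68137) (nat_lit 0x5228a3)
  (nat_lit 0) (.node (.node (.node (.node .nil (nat_lit 68254) (nat_lit 0xa4524a3) (nat_lit 0) .nil) (nat_lit 68255) (nat_lit 0x8a3a4c4) (nat_lit 0) (.node .nil (nat_lit 68300) (nat_lit 0xa451c83)
  (nat_lit 0) .nil)) (nat_lit 68301) (nat_lit 137450) (nat_lit 0) (.node (.node .nil (nat_lit 68316) (nat_lit 0x4520c7) (nat_lit 0) .nil) (nat_lit 68317) (nat_lit 141416) (nat_lit 0) (.node .nil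
  (nat_lit 68324) (nat_lit 0x6a228e6) (nat_lit 0) .nil))) (nat_lit 68325) (nat_lit 4425) (nat_lit 0) (.node (.node (.node .nil (nat_lit 68449) (nat_lit 0x8a414e3) (nat_lit 0) .nil) (nat_lit 68450)
  (nat_lit 0x893a8e4) (nat_lit 0) (.node .nil (nat_lit 68451) (nat_lit 0x229143) (nat_lit 0) .nil)) (nat_lit 68452) (nat_lit 141441) (nat_lit 4202) (.node (.node .nil (nat_lit 68569) (nat_lit
  0xc4524c4) (nat_lit 0) .nil) (nat_lit 68570) (nat_lit 0x8a498a3) (nat_lit 0) .nil)))) (nat_lit 68615) (nat_lit 168262) (nat_lit 0) (.node (.node (.node (.node (.node .nil (nat_lit 68616) (nat_lit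
  0xa622883) (nat_lit 0) .nil) (nat_lit 68631) (nat_lit 0x450d01) (nat_lit 0) (.node .nil (nat_lit 68632) (nat_lit 0x4520e6) (nat_lit 0) .nil)) (nat_lit 68639) (nat_lit 141601) (nat_lit 0) (.node
  (.node .nil (nat_lit 68640) (nat_lit 0x8a224e6) (nat_lit 0) .nil) (nat_lit 68752) (nat_lit 0x10522882) (nat_lit 0) (.node .nil (nat_lit 68753) (nat_lit 0x10451462) (nat_lit 0) .nil))) (nat_lit
  68774) (nat_lit 0xe91a882) (nat_lit 0) (.node (.node (.node .nil (nat_lit 68775) (nat_lit 0x12351462) (nat_lit 0) .nil) (nat_lit 68878) (nat_lit 0x8351462) (nat_lit 0) (.node .nil (nat_lit 68879)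
  (nat_lit 0x6522882) (nat_lit 0) .nil)) (nat_lit 68910) (nat_lit 0x246a39062) (nat_lit 0) (.node (.node .nil (nat_lit 68911) (nat_lit 0x928d42) (nat_lit 0) .nil) (nat_lit 68934) (nat_lit 0xa228c2)
  (nat_lit 0) .nil))) (nat_lit 68935) (nat_lit 0x822846) (nat_lit 0) (.node (.node (.node (.node .nil (nat_lit 68960) (nat_lit 0x720d42) (nat_lit 0) .nil) (nat_lit 68961) (nat_lit 0x106a39062)
  (nat_lit 0) (.node .nil (nat_lit 69067) (nat_lit 0x14522882) (nat_lit 0) .nil)) (nat_lit 69068) (nat_lit 0x14451462) (nat_lit 0) (.node (.node .nil (nat_lit 69089) (nat_lit 0x12350cc2) (nat_lit 0)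
  .nil) (nat_lit 69090) (nat_lit 0x123510c2) (nat_lit 0) (.node .nil (nat_lit 69193) (nat_lit 0xc41a882) (nat_lit 0) .nil))) (nat_lit 69194) (nat_lit 0x8350cc2) (nat_lit 0) (.node (.node (.node .nil
  (nat_lit 69225) (nat_lit 0x91a8c2) (nat_lit 0) .nil) (nat_lit 69226) (nat_lit 0x192351062) (nat_lit 0) (.node .nil (nat_lit 69249) (nat_lit 0x8228c2) (nat_lit 0) .nil)) (nat_lit 69250) (nat_lit
  0x751142) (nat_lit 0) (.node (.node .nil (nat_lit 69275) (nat_lit 0xcc451062) (nat_lit 0) .nil) (nat_lit 69276) (nat_lit 0x41a8c2) (nat_lit 0) .nil))))))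
def tK_9 : T := (.node (.node (.node (.node (.node (.node (.node .nil (nat_lit 69385) (nat_lit 0xa29d23) (nat_lit 0) .nil) (nat_lit 69400) (nat_lit 333027) (nat_lit 0) (.node .nil (nat_lit 69401)
  (nat_lit 239844) (nat_lit 0) .nil)) (nat_lit 69504) (nat_lit 0xa320c4) (nat_lit 0) (.node (.node .nil (nat_lit 69505) (nat_lit 0xa418a3) (nat_lit 0) .nil) (nat_lit 69556) (nat_lit 10470) (nat_lit 0)
  (.node .nil (nat_lit 69557) (nat_lit 331873) (nat_lit 0) .nil))) (nat_lit 69574) (nat_lit 0xa1a0e6) (nat_lit 0) (.node (.node (.node .nil (nat_lit 69575) (nat_lit 10497) (nat_lit 4425) .nil)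
  (nat_lit 69596) (nat_lit 335142) (nat_lit 0) (.node .nil (nat_lit 69597) (nat_lit 0xa224a6) (nat_lit 0) .nil)) (nat_lit 69699) (nat_lit 0xa3a4a3) (nat_lit 0) (.node (.node .nil (nat_lit 69700)
  (nat_lit 10532) (nat_lit 0) .nil) (nat_lit 69715) (nat_lit 331973) (nat_lit 0) .nil))) (nat_lit 69716) (nat_lit 335011) (nat_lit 0) (.node (.node (.node (.node .nil (nat_lit 69819) (nat_lit
  0xa3a0a3) (nat_lit 0) .nil) (nat_lit 69820) (nat_lit 0x93a8c4) (nat_lit 0) (.node .nil (nat_lit 69871) (nat_lit 10371) (nat_lit 0) .nil)) (nat_lit 69872) (nat_lit 10439) (nat_lit 0) (.node (.node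
  .nil (nat_lit 69889) (nat_lit 328) (nat_lit 0x4524c5) .nil) (nat_lit 69890) (nat_lit 0xa1a0c7) (nat_lit 0) (.node .nil (nat_lit 69911) (nat_lit 0xa224c5) (nat_lit 0) .nil))) (nat_lit 69912) (nat_lit
  268522) (nat_lit 0) (.node (.node (.node .nil (nat_lit 70016) (nat_lit 0xa49462) (nat_lit 0) .nil) (nat_lit 70017) (nat_lit 0xa3a482) (nat_lit 0) (.node .nil (nat_lit 70032) (nat_lit 239746)
  (nat_lit 0) .nil)) (nat_lit 70033) (nat_lit 332898) (nat_lit 0) (.node (.node .nil (nat_lit 70136) (nat_lit 0x93a882) (nat_lit 0) .nil) (nat_lit 70137) (nat_lit 0xa41462) (nat_lit 0) .nil))))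
  (nat_lit 70178) (nat_lit 0xa22446) (nat_lit 0) (.node (.node (.node (.node (.node .nil (nat_lit 70179) (nat_lit 239906) (nat_lit 0) .nil) (nat_lit 70188) (nat_lit 0x750d02) (nat_lit 0) (.node .nil
  (nat_lit 70189) (nat_lit 335106) (nat_lit 0) .nil)) (nat_lit 70202) (nat_lit 0xa39062) (nat_lit 0) (.node (.node .nil (nat_lit 70203) (nat_lit 10310) (nat_lit 0) .nil) (nat_lit 70331) (nat_lit
  0xa490c2) (nat_lit 0) (.node .nil (nat_lit 70332) (nat_lit 0xa48cc2) (nat_lit 0) .nil))) (nat_lit 70347) (nat_lit 330946) (nat_lit 0) (.node (.node (.node .nil (nat_lit 70348) (nat_lit 331970)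
  (nat_lit 0) .nil) (nat_lit 70451) (nat_lit 0xa40cc2) (nat_lit 0) (.node .nil (nat_lit 70452) (nat_lit 0xa32082) (nat_lit 0) .nil)) (nat_lit 70493) (nat_lit 337090) (nat_lit 0) (.node (.node .nil
  (nat_lit 70494) (nat_lit 0xa224c2) (nat_lit 0) .nil) (nat_lit 70503) (nat_lit 336066) (nat_lit 0) .nil))) (nat_lit 70504) (nat_lit 0xa1a0c2) (nat_lit 0) (.node (.node (.node (.node .nil (nat_lit
  70517) (nat_lit 10434) (nat_lit 0) .nil) (nat_lit 70518) (nat_lit 0xa20cc2) (nat_lit 0) (.node .nil (nat_lit 70648) (nat_lit 0x105228a3) (nat_lit 0) .nil)) (nat_lit 70649) (nat_lit 266564) (nat_lit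
  0) (.node (.node .nil (nat_lit 70658) (nat_lit 0xe91a8c4) (nat_lit 0) .nil) (nat_lit 70659) (nat_lit 0x1251a8a3) (nat_lit 0) (.node .nil (nat_lit 70762) (nat_lit 0xc41a8e4) (nat_lit 0) .nil)))
  (nat_lit 70763) (nat_lit 0x8351ca3) (nat_lit 0) (.node (.node (.node .nil (nat_lit 70802) (nat_lit 0x41a883) (nat_lit 141509) .nil) (nat_lit 70803) (nat_lit 0x331146) (nat_lit 0) (.node .nil
  (nat_lit 70840) (nat_lit 0x64148a) (nat_lit 0) .nil)) (nat_lit 70841) (nat_lit 0x751145) (nat_lit 0) (.node (.node .nil (nat_lit 70848) (nat_lit 0x246a39883) (nat_lit 0) .nil) (nat_lit 70849)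
  (nat_lit 9322) (nat_lit 0) .nil))))) (nat_lit 70963) (nat_lit 332099) (nat_lit 0) (.node (.node (.node (.node (.node (.node .nil (nat_lit 70964) (nat_lit 0x10229143) (nat_lit 0) .nil) (nat_lit
  70973) (nat_lit 0x123518a3) (nat_lit 0) (.node .nil (nat_lit 70974) (nat_lit 0xe928d44) (nat_lit 0) .nil)) (nat_lit 71077) (nat_lit 0x66228a3) (nat_lit 0) (.node (.node .nil (nat_lit 71078) (nat_lit
  0x65228e4) (nat_lit 0) .nil) (nat_lit 71117) (nat_lit 0x41a8e6) (nat_lit 0) (.node .nil (nat_lit 71118) (nat_lit 0xa22903) (nat_lit 138) .nil))) (nat_lit 71155) (nat_lit 0xa228c5) (nat_lit 0) (.node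
  (.node (.node .nil (nat_lit 71156) (nat_lit 0x829146) (nat_lit 0) .nil) (nat_lit 71163) (nat_lit 298305) (nat_lit 0) (.node .nil (nat_lit 71164) (nat_lit 0x192351883) (nat_lit 0) .nil)) (nat_lit
  73794) (nat_lit 337125) (nat_lit 0) (.node (.node .nil (nat_lit 73795) (nat_lit 0xa29127) (nat_lit 0) .nil) (nat_lit 73810) (nat_lit 0xa20c41) (nat_lit 0) .nil))) (nat_lit 73811) (nat_lit 2282)
  (nat_lit 0) (.node (.node (.node (.node .nil (nat_lit 73914) (nat_lit 335937) (nat_lit 0) .nil) (nat_lit 73915) (nat_lit 0xa19905) (nat_lit 0) (.node .nil (nat_lit 73966) (nat_lit 332996) (nat_lit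
  0) .nil)) (nat_lit 73967) (nat_lit 204099) (nat_lit 0) (.node (.node .nil (nat_lit 73984) (nat_lit 0xa320e3) (nat_lit 0) .nil) (nat_lit 73985) (nat_lit 0xa414e4) (nat_lit 0) (.node .nil (nat_lit
  74006) (nat_lit 0xa49041) (nat_lit 0) .nil))) (nat_lit 74007) (nat_lit 0xa49cc3) (nat_lit 0) (.node (.node (.node .nil (nat_lit 74109) (nat_lit 0x751489) (nat_lit 0) .nil) (nat_lit 74110) (nat_lit
  334117) (nat_lit 0) (.node .nil (nat_lit 74125) (nat_lit 7493) (nat_lit 0) .nil)) (nat_lit 74126) (nat_lit 331874) (nat_lit 0) (.node (.node .nil (nat_lit 74229) (nat_lit 0xa28d05) (nat_lit 0) .nil)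
  (nat_lit 74230) (nat_lit 10498) (nat_lit 0) .nil)))) (nat_lit 74281) (nat_lit 239811) (nat_lit 0) (.node (.node (.node (.node (.node .nil (nat_lit 74282) (nat_lit 333988) (nat_lit 0) .nil) (nat_lit
  74299) (nat_lit 0xa41ca4) (nat_lit 0) (.node .nil (nat_lit 74300) (nat_lit 0x93a8e3) (nat_lit 0) .nil)) (nat_lit 74321) (nat_lit 0xa324c3) (nat_lit 0) (.node (.node .nil (nat_lit 74322) (nat_lit
  337026) (nat_lit 0) .nil) (nat_lit 74434) (nat_lit 0x449d45) (nat_lit 0) (.node .nil (nat_lit 74435) (nat_lit 0x450d02) (nat_lit 0) .nil))) (nat_lit 74436) (nat_lit 201029) (nat_lit 0) (.node (.node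
  (.node .nil (nat_lit 74437) (nat_lit 0x8a29883) (nat_lit 0) .nil) (nat_lit 74554) (nat_lit 0x8a29125) (nat_lit 0) (.node .nil (nat_lit 74555) (nat_lit 141602) (nat_lit 0) .nil)) (nat_lit 74600)
  (nat_lit 0x6228c3) (nat_lit 0) (.node (.node .nil (nat_lit 74601) (nat_lit 141442) (nat_lit 0) .nil) (nat_lit 74616) (nat_lit 0x8a418a4) (nat_lit 0) .nil))) (nat_lit 74617) (nat_lit 0x893a8c3)
  (nat_lit 0) (.node (.node (.node (.node .nil (nat_lit 74624) (nat_lit 0x8a3a4e3) (nat_lit 0) .nil) (nat_lit 74625) (nat_lit 0x8a49ca4) (nat_lit 0) (.node .nil (nat_lit 74749) (nat_lit 0x8a1a041)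
  (nat_lit 0) .nil)) (nat_lit 74750) (nat_lit 0x451905) (nat_lit 0) (.node (.node .nil (nat_lit 74751) (nat_lit 0x8a31483) (nat_lit 0) .nil) (nat_lit 74752) (nat_lit 141541) (nat_lit 0) (.node .nil
  (nat_lit 74869) (nat_lit 268394) (nat_lit 0) .nil))) (nat_lit 74870) (nat_lit 0x6a29145) (nat_lit 0) (.node (.node (.node .nil (nat_lit 74915) (nat_lit 0x451041) (nat_lit 0) .nil) (nat_lit 74916)
  (nat_lit 0x451cc3) (nat_lit 0) (.node .nil (nat_lit 74931) (nat_lit 0x8a320c3) (nat_lit 0) .nil)) (nat_lit 74932) (nat_lit 0x8a3a0a4) (nat_lit 0) (.node (.node .nil (nat_lit 74939) (nat_lit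
  0x8a324a4) (nat_lit 0) .nil) (nat_lit 74940) (nat_lit 0xc4524e3) (nat_lit 0) .nil))))))
def tK_10 : T := (.node (.node (.node (.node (.node (.node (.node .nil (nat_lit 75157) (nat_lit 0x8a29146) (nat_lit 0) .nil) (nat_lit 75160) (nat_lit 108741) (nat_lit 0) (.node .nil (nat_lit 75161)
  (nat_lit 0x6a29c83) (nat_lit 0) .nil)) (nat_lit 75162) (nat_lit 0x6a19906) (nat_lit 0) (.node (.node .nil (nat_lit 75163) (nat_lit 0x3520c5) (nat_lit 0) .nil) (nat_lit 75232) (nat_lit 3395) (nat_lit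
  10437) (.node .nil (nat_lit 75233) (nat_lit 0x311d44) (nat_lit 0) .nil))) (nat_lit 75248) (nat_lit 108803) (nat_lit 0x8228c5) (.node (.node (.node .nil (nat_lit 75249) (nat_lit 0x6a320a4) (nat_lit
  0) .nil) (nat_lit 75256) (nat_lit 0x6a29d24) (nat_lit 0) (.node .nil (nat_lit 75257) (nat_lit 108835) (nat_lit 0x4520c5) .nil)) (nat_lit 75471) (nat_lit 0x6a29126) (nat_lit 0) (.node (.node .nil
  (nat_lit 75472) (nat_lit 0x33a925) (nat_lit 0) .nil) (nat_lit 75475) (nat_lit 0x6a39483) (nat_lit 0) .nil))) (nat_lit 75476) (nat_lit 167237) (nat_lit 0) (.node (.node (.node (.node .nil (nat_lit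
  75477) (nat_lit 0x351d05) (nat_lit 0) .nil) (nat_lit 75478) (nat_lit 0x6a28d06) (nat_lit 0) (.node .nil (nat_lit 75547) (nat_lit 0x33a8a4) (nat_lit 0) .nil)) (nat_lit 75548) (nat_lit 10346) (nat_lit
  10) (.node (.node .nil (nat_lit 75563) (nat_lit 0xa3520a4) (nat_lit 0) .nil) (nat_lit 75564) (nat_lit 0x352061) (nat_lit 8330) (.node .nil (nat_lit 75571) (nat_lit 0x352461) (nat_lit 4424) .nil)))
  (nat_lit 75572) (nat_lit 0x6a3a4a4) (nat_lit 0) (.node (.node (.node .nil (nat_lit 75682) (nat_lit 0x41a845) (nat_lit 0) .nil) (nat_lit 75683) (nat_lit 0xc41a883) (nat_lit 0) (.node .nil (nat_lit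
  75808) (nat_lit 267402) (nat_lit 0) .nil)) (nat_lit 75809) (nat_lit 0xa29142) (nat_lit 10501) (.node (.node .nil (nat_lit 75818) (nat_lit 205930) (nat_lit 0) .nil) (nat_lit 75819) (nat_lit
  0x1251a883) (nat_lit 0) .nil)))) (nat_lit 75864) (nat_lit 0xe41a862) (nat_lit 0) (.node (.node (.node (.node (.node .nil (nat_lit 75865) (nat_lit 0x41a8e4) (nat_lit 0) .nil) (nat_lit 75866) (nat_lit
  0xe91a862) (nat_lit 0) (.node .nil (nat_lit 75867) (nat_lit 0x123508a4) (nat_lit 0) .nil)) (nat_lit 75890) (nat_lit 0x10451c62) (nat_lit 0) (.node (.node .nil (nat_lit 75891) (nat_lit 0xa228e3)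
  (nat_lit 0) .nil) (nat_lit 75997) (nat_lit 0x6522883) (nat_lit 0) (.node .nil (nat_lit 75998) (nat_lit 0x41a8a2) (nat_lit 0) .nil))) (nat_lit 76123) (nat_lit 0xa3948a) (nat_lit 10502) (.node (.node
  (.node .nil (nat_lit 76124) (nat_lit 0x829141) (nat_lit 0) .nil) (nat_lit 76133) (nat_lit 0x12351883) (nat_lit 0) (.node .nil (nat_lit 76134) (nat_lit 298311) (nat_lit 0) .nil)) (nat_lit 76179)
  (nat_lit 0x331144) (nat_lit 0) (.node (.node .nil (nat_lit 76180) (nat_lit 0x8351862) (nat_lit 0) .nil) (nat_lit 76181) (nat_lit 0x12351482) (nat_lit 0) .nil))) (nat_lit 76182) (nat_lit 0x144524e2)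
  (nat_lit 0) (.node (.node (.node (.node .nil (nat_lit 76205) (nat_lit 0xa31143) (nat_lit 0) .nil) (nat_lit 76206) (nat_lit 0x10622862) (nat_lit 0) (.node .nil (nat_lit 76318) (nat_lit 0x91a8e5)
  (nat_lit 0) .nil)) (nat_lit 76319) (nat_lit 0x246a31483) (nat_lit 0) (.node (.node .nil (nat_lit 76328) (nat_lit 0x81148a) (nat_lit 0) .nil) (nat_lit 76329) (nat_lit 332098) (nat_lit 0) (.node .nil
  (nat_lit 76454) (nat_lit 137322) (nat_lit 0) .nil))) (nat_lit 76455) (nat_lit 0xca451483) (nat_lit 0) (.node (.node (.node .nil (nat_lit 76480) (nat_lit 0xc41a8e3) (nat_lit 0) .nil) (nat_lit 76481)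
  (nat_lit 0x66228a4) (nat_lit 0) (.node .nil (nat_lit 76510) (nat_lit 0x12351cc3) (nat_lit 0) .nil)) (nat_lit 76511) (nat_lit 0x930d44) (nat_lit 0) (.node (.node .nil (nat_lit 76518) (nat_lit
  0xc829143) (nat_lit 0) .nil) (nat_lit 76519) (nat_lit 0x145228e3) (nat_lit 0) .nil))))) (nat_lit 76633) (nat_lit 0x24a351483) (nat_lit 0) (.node (.node (.node (.node (.node (.node .nil (nat_lit
  76634) (nat_lit 0x648d45) (nat_lit 0) .nil) (nat_lit 76643) (nat_lit 0xa22841) (nat_lit 0) (.node .nil (nat_lit 76644) (nat_lit 0x829145) (nat_lit 0) .nil)) (nat_lit 76769) (nat_lit 0x188351483)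
  (nat_lit 0) (.node (.node .nil (nat_lit 76770) (nat_lit 134466) (nat_lit 0) .nil) (nat_lit 76795) (nat_lit 0x8351ca4) (nat_lit 0) (.node .nil (nat_lit 76796) (nat_lit 0x65228e3) (nat_lit 0) .nil)))
  (nat_lit 76825) (nat_lit 0x91a882) (nat_lit 0) (.node (.node (.node .nil (nat_lit 76826) (nat_lit 0xc91a8c3) (nat_lit 0) .nil) (nat_lit 76833) (nat_lit 0x14531143) (nat_lit 0) (.node .nil (nat_lit
  76834) (nat_lit 0x105228c3) (nat_lit 0) .nil)) (nat_lit 76974) (nat_lit 0xa1a906) (nat_lit 0) (.node (.node .nil (nat_lit 76975) (nat_lit 108776) (nat_lit 0) .nil) (nat_lit 76976) (nat_lit 5226)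
  (nat_lit 0) .nil))) (nat_lit 76977) (nat_lit 0x351c83) (nat_lit 0) (.node (.node (.node (.node .nil (nat_lit 76980) (nat_lit 105801) (nat_lit 0) .nil) (nat_lit 76981) (nat_lit 0x451146) (nat_lit 0)
  (.node .nil (nat_lit 77112) (nat_lit 108707) (nat_lit 0) .nil)) (nat_lit 77113) (nat_lit 105796) (nat_lit 0) (.node (.node .nil (nat_lit 77128) (nat_lit 0x3520a3) (nat_lit 0) .nil) (nat_lit 77129)
  (nat_lit 0x51a904) (nat_lit 0) (.node .nil (nat_lit 77152) (nat_lit 0x351d24) (nat_lit 0) .nil))) (nat_lit 77153) (nat_lit 0x3524a3) (nat_lit 0) (.node (.node (.node .nil (nat_lit 77289) (nat_lit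
  108806) (nat_lit 0) .nil) (nat_lit 77290) (nat_lit 0x350d06) (nat_lit 0) (.node .nil (nat_lit 77291) (nat_lit 0x750d44) (nat_lit 0) .nil)) (nat_lit 77292) (nat_lit 3398) (nat_lit 0) (.node (.node
  .nil (nat_lit 77295) (nat_lit 0x351126) (nat_lit 0) .nil) (nat_lit 77296) (nat_lit 108838) (nat_lit 0) .nil)))) (nat_lit 77427) (nat_lit 108678) (nat_lit 0) (.node (.node (.node (.node (.node .nil
  (nat_lit 77428) (nat_lit 108646) (nat_lit 0) .nil) (nat_lit 77443) (nat_lit 0x351904) (nat_lit 0) (.node .nil (nat_lit 77444) (nat_lit 0x352066) (nat_lit 0) .nil)) (nat_lit 77467) (nat_lit 0x352466)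
  (nat_lit 0) (.node (.node .nil (nat_lit 77468) (nat_lit 0x352486) (nat_lit 0) .nil) (nat_lit 77582) (nat_lit 0x451125) (nat_lit 0) (.node .nil (nat_lit 77583) (nat_lit 0x4524a2) (nat_lit 0) .nil)))
  (nat_lit 77700) (nat_lit 4423) (nat_lit 0) (.node (.node (.node .nil (nat_lit 77701) (nat_lit 0x451883) (nat_lit 0) .nil) (nat_lit 77702) (nat_lit 141512) (nat_lit 0) (.node .nil (nat_lit 77703)
  (nat_lit 0x8a28d02) (nat_lit 0) .nil)) (nat_lit 77744) (nat_lit 0x729143) (nat_lit 0) (.node (.node .nil (nat_lit 77745) (nat_lit 0x451482) (nat_lit 134470) .nil) (nat_lit 77760) (nat_lit 0x451d04)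
  (nat_lit 0) .nil))) (nat_lit 77761) (nat_lit 0x8a21902) (nat_lit 0) (.node (.node (.node (.node .nil (nat_lit 77784) (nat_lit 0x8a49862) (nat_lit 0) .nil) (nat_lit 77785) (nat_lit 0x451924) (nat_lit
  0) (.node .nil (nat_lit 77897) (nat_lit 0x452445) (nat_lit 0) .nil)) (nat_lit 77898) (nat_lit 0x351145) (nat_lit 0) (.node (.node .nil (nat_lit 78015) (nat_lit 0x450ca4) (nat_lit 0) .nil) (nat_lit
  78016) (nat_lit 6282) (nat_lit 0) (.node .nil (nat_lit 78017) (nat_lit 0x8a19902) (nat_lit 0) .nil))) (nat_lit 78018) (nat_lit 140522) (nat_lit 0) (.node (.node (.node .nil (nat_lit 78059) (nat_lit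
  0x4508a4) (nat_lit 134469) .nil) (nat_lit 78060) (nat_lit 0x522862) (nat_lit 0) (.node .nil (nat_lit 78075) (nat_lit 0x8a41c62) (nat_lit 0) .nil)) (nat_lit 78076) (nat_lit 0x4520c4) (nat_lit 0)
  (.node (.node .nil (nat_lit 78099) (nat_lit 0x4524e4) (nat_lit 0) .nil) (nat_lit 78100) (nat_lit 0xa452462) (nat_lit 0) .nil))))))
def tK_11 : T := (.node (.node (.node (.node (.node (.node (.node .nil (nat_lit 78223) (nat_lit 333928) (nat_lit 0) .nil) (nat_lit 78326) (nat_lit 0xa19882) (nat_lit 0) (.node .nil (nat_lit 78327)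
  (nat_lit 234) (nat_lit 0) .nil)) (nat_lit 78342) (nat_lit 10441) (nat_lit 0) (.node (.node .nil (nat_lit 78343) (nat_lit 332071) (nat_lit 0) .nil) (nat_lit 78378) (nat_lit 10436) (nat_lit 0) (.node
  .nil (nat_lit 78379) (nat_lit 334946) (nat_lit 0) .nil))) (nat_lit 78392) (nat_lit 0xa3a062) (nat_lit 0) (.node (.node (.node .nil (nat_lit 78393) (nat_lit 336100) (nat_lit 0) .nil) (nat_lit 78402)
  (nat_lit 0xa19922) (nat_lit 0) (.node .nil (nat_lit 78403) (nat_lit 0xa3a462) (nat_lit 0) .nil)) (nat_lit 78537) (nat_lit 331013) (nat_lit 0) (.node (.node .nil (nat_lit 78538) (nat_lit 336034)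
  (nat_lit 141606) .nil) (nat_lit 78641) (nat_lit 7489) (nat_lit 0) .nil))) (nat_lit 78642) (nat_lit 0xa29062) (nat_lit 0) (.node (.node (.node (.node .nil (nat_lit 78657) (nat_lit 331977) (nat_lit 0)
  .nil) (nat_lit 78658) (nat_lit 10535) (nat_lit 0) (.node .nil (nat_lit 78693) (nat_lit 329955) (nat_lit 0) .nil)) (nat_lit 78694) (nat_lit 333953) (nat_lit 0) (.node (.node .nil (nat_lit 78707)
  (nat_lit 0xa41c81) (nat_lit 0) .nil) (nat_lit 78708) (nat_lit 0xa41862) (nat_lit 0) (.node .nil (nat_lit 78717) (nat_lit 0xa11d23) (nat_lit 0) .nil))) (nat_lit 78718) (nat_lit 0xa49482) (nat_lit 0)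
  (.node (.node (.node .nil (nat_lit 78838) (nat_lit 0x8228e5) (nat_lit 0) .nil) (nat_lit 78839) (nat_lit 0xa2988a) (nat_lit 0) (.node .nil (nat_lit 78848) (nat_lit 0x1d2351483) (nat_lit 0) .nil))
  (nat_lit 78849) (nat_lit 301162) (nat_lit 0) (.node (.node .nil (nat_lit 78952) (nat_lit 0x14452062) (nat_lit 0) .nil) (nat_lit 78953) (nat_lit 0x620d45) (nat_lit 0) .nil)))) (nat_lit 78992)
  (nat_lit 0xe41a8a4) (nat_lit 0) (.node (.node (.node (.node (.node .nil (nat_lit 78993) (nat_lit 0xc41a8c3) (nat_lit 0) .nil) (nat_lit 79030) (nat_lit 0x10451cc3) (nat_lit 0) (.node .nil (nat_lit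
  79031) (nat_lit 0xa22862) (nat_lit 0) .nil)) (nat_lit 79038) (nat_lit 0xc91a8a4) (nat_lit 0) (.node (.node .nil (nat_lit 79039) (nat_lit 0xe648d43) (nat_lit 0) .nil) (nat_lit 79153) (nat_lit
  0xa29147) (nat_lit 0) (.node .nil (nat_lit 79154) (nat_lit 0x831145) (nat_lit 0) .nil))) (nat_lit 79163) (nat_lit 298306) (nat_lit 0) (.node (.node (.node .nil (nat_lit 79164) (nat_lit 0x8e91a883)
  (nat_lit 0) .nil) (nat_lit 79267) (nat_lit 0x329145) (nat_lit 0) (.node .nil (nat_lit 79268) (nat_lit 0x8351062) (nat_lit 0) .nil)) (nat_lit 79307) (nat_lit 0x65228c3) (nat_lit 0) (.node (.node .nil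
  (nat_lit 79308) (nat_lit 0x83518a4) (nat_lit 0) .nil) (nat_lit 79345) (nat_lit 0x822882) (nat_lit 0) .nil))) (nat_lit 79346) (nat_lit 0x106228c3) (nat_lit 0) (.node (.node (.node (.node .nil
  (nat_lit 79353) (nat_lit 0xe91a8e3) (nat_lit 0) .nil) (nat_lit 79354) (nat_lit 0x12351ca4) (nat_lit 0) (.node .nil (nat_lit 79494) (nat_lit 0x451145) (nat_lit 0) .nil)) (nat_lit 79495) (nat_lit
  0x352445) (nat_lit 0) (.node (.node .nil (nat_lit 79498) (nat_lit 108769) (nat_lit 0) .nil) (nat_lit 79499) (nat_lit 0x51a883) (nat_lit 0) (.node .nil (nat_lit 79500) (nat_lit 0x6a19902) (nat_lit 0)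
  .nil))) (nat_lit 79501) (nat_lit 167240) (nat_lit 0) (.node (.node (.node .nil (nat_lit 79624) (nat_lit 0x3508a4) (nat_lit 0) .nil) (nat_lit 79625) (nat_lit 0x33a862) (nat_lit 0) (.node .nil
  (nat_lit 79648) (nat_lit 0x6752462) (nat_lit 0) .nil)) (nat_lit 79649) (nat_lit 0x3524e4) (nat_lit 0) (.node (.node .nil (nat_lit 79672) (nat_lit 0x6a41c62) (nat_lit 0) .nil) (nat_lit 79673)
  (nat_lit 0x3520c4) (nat_lit 0) .nil))))) (nat_lit 79809) (nat_lit 0x3524a2) (nat_lit 0) (.node (.node (.node (.node (.node (.node .nil (nat_lit 79810) (nat_lit 0x351125) (nat_lit 0) .nil) (nat_lit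
  79813) (nat_lit 0x351883) (nat_lit 0) (.node .nil (nat_lit 79814) (nat_lit 3399) (nat_lit 0) .nil)) (nat_lit 79815) (nat_lit 108744) (nat_lit 0) (.node (.node .nil (nat_lit 79816) (nat_lit
  0x6a28d02) (nat_lit 0) .nil) (nat_lit 79939) (nat_lit 0xa1a8e2) (nat_lit 0) (.node .nil (nat_lit 79940) (nat_lit 0x351482) (nat_lit 0) .nil))) (nat_lit 79963) (nat_lit 0x351924) (nat_lit 0) (.node
  (.node (.node .nil (nat_lit 79964) (nat_lit 0x6a49862) (nat_lit 0) .nil) (nat_lit 79987) (nat_lit 0x351d04) (nat_lit 0) (.node .nil (nat_lit 79988) (nat_lit 0x12622862) (nat_lit 0) .nil)) (nat_lit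
  80100) (nat_lit 141505) (nat_lit 0) (.node (.node .nil (nat_lit 80101) (nat_lit 0x451c83) (nat_lit 0) .nil) (nat_lit 80102) (nat_lit 141544) (nat_lit 0) .nil))) (nat_lit 80103) (nat_lit 0x522868)
  (nat_lit 0) (.node (.node (.node (.node .nil (nat_lit 80222) (nat_lit 168265) (nat_lit 0) .nil) (nat_lit 80223) (nat_lit 0x351146) (nat_lit 0) (.node .nil (nat_lit 80256) (nat_lit 168260) (nat_lit
  0) .nil)) (nat_lit 80257) (nat_lit 141475) (nat_lit 0) (.node (.node .nil (nat_lit 80280) (nat_lit 0x451d24) (nat_lit 0x3520e5) .nil) (nat_lit 80281) (nat_lit 0x4524a3) (nat_lit 0) (.node .nil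
  (nat_lit 80304) (nat_lit 0x449d44) (nat_lit 0) .nil))) (nat_lit 80305) (nat_lit 0x4520a3) (nat_lit 0) (.node (.node (.node .nil (nat_lit 80415) (nat_lit 0x622883) (nat_lit 0) .nil) (nat_lit 80416)
  (nat_lit 4422) (nat_lit 0) (.node .nil (nat_lit 80417) (nat_lit 0x450d06) (nat_lit 0) .nil)) (nat_lit 80418) (nat_lit 141574) (nat_lit 0) (.node (.node .nil (nat_lit 80537) (nat_lit 0x451126)
  (nat_lit 0) .nil) (nat_lit 80538) (nat_lit 141606) (nat_lit 0) .nil)))) (nat_lit 80571) (nat_lit 141414) (nat_lit 0) (.node (.node (.node (.node (.node .nil (nat_lit 80572) (nat_lit 141446) (nat_lit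
  0) .nil) (nat_lit 80595) (nat_lit 0x452466) (nat_lit 0) (.node .nil (nat_lit 80596) (nat_lit 0x622924) (nat_lit 0x351905) .nil)) (nat_lit 80619) (nat_lit 0x452066) (nat_lit 0) (.node (.node .nil
  (nat_lit 80620) (nat_lit 0x451904) (nat_lit 0) .nil) (nat_lit 80724) (nat_lit 336101) (nat_lit 0) (.node .nil (nat_lit 80725) (nat_lit 0xa28d07) (nat_lit 0) .nil))) (nat_lit 80844) (nat_lit
  0xa22441) (nat_lit 0) (.node (.node (.node .nil (nat_lit 80845) (nat_lit 333033) (nat_lit 0) .nil) (nat_lit 80860) (nat_lit 0x751483) (nat_lit 0) (.node .nil (nat_lit 80861) (nat_lit 10305) (nat_lit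
  0) .nil)) (nat_lit 80874) (nat_lit 334951) (nat_lit 0) (.node (.node .nil (nat_lit 80875) (nat_lit 333028) (nat_lit 0) .nil) (nat_lit 80914) (nat_lit 0x7524a4) (nat_lit 0) .nil))) (nat_lit 80915)
  (nat_lit 0x831d43) (nat_lit 0) (.node (.node (.node (.node .nil (nat_lit 80936) (nat_lit 0xa41041) (nat_lit 0) .nil) (nat_lit 80937) (nat_lit 0xa41cc3) (nat_lit 0) (.node .nil (nat_lit 81039)
  (nat_lit 0xa19907) (nat_lit 0) .nil)) (nat_lit 81040) (nat_lit 336039) (nat_lit 0) (.node (.node .nil (nat_lit 81159) (nat_lit 335141) (nat_lit 0) .nil) (nat_lit 81160) (nat_lit 332066) (nat_lit 0)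
  (.node .nil (nat_lit 81175) (nat_lit 322) (nat_lit 0) .nil))) (nat_lit 81176) (nat_lit 0x23a883) (nat_lit 0) (.node (.node (.node .nil (nat_lit 81189) (nat_lit 335012) (nat_lit 0) .nil) (nat_lit
  81190) (nat_lit 239843) (nat_lit 0) (.node .nil (nat_lit 81229) (nat_lit 0xa3a4c3) (nat_lit 0) .nil)) (nat_lit 81230) (nat_lit 0xa498a4) (nat_lit 0) (.node (.node .nil (nat_lit 81251) (nat_lit
  0xa418e3) (nat_lit 0) .nil) (nat_lit 81252) (nat_lit 336002) (nat_lit 0) .nil))))))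
def tK_12 : T := (.node (.node (.node (.node (.node (.node (.node .nil (nat_lit 81357) (nat_lit 10309) (nat_lit 3397) .nil) (nat_lit 81372) (nat_lit 0xa11489) (nat_lit 0) (.node .nil (nat_lit 81373)
  (nat_lit 10473) (nat_lit 0x91a8e5) .nil)) (nat_lit 81492) (nat_lit 336097) (nat_lit 0x451d25) (.node (.node .nil (nat_lit 81493) (nat_lit 331015) (nat_lit 0) .nil) (nat_lit 81518) (nat_lit 330914)
  (nat_lit 0) (.node .nil (nat_lit 81519) (nat_lit 10468) (nat_lit 0) .nil))) (nat_lit 81542) (nat_lit 337092) (nat_lit 0) (.node (.node (.node .nil (nat_lit 81543) (nat_lit 0xa49c62) (nat_lit 0)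
  .nil) (nat_lit 81552) (nat_lit 0xa408a4) (nat_lit 0) (.node .nil (nat_lit 81553) (nat_lit 0x93a862) (nat_lit 0) .nil)) (nat_lit 81671) (nat_lit 10402) (nat_lit 3398) (.node (.node .nil (nat_lit
  81672) (nat_lit 239747) (nat_lit 0) .nil) (nat_lit 81687) (nat_lit 335137) (nat_lit 0x748d45) .nil))) (nat_lit 81688) (nat_lit 0xa29122) (nat_lit 0) (.node (.node (.node (.node .nil (nat_lit 81807)
  (nat_lit 0xa1a0e1) (nat_lit 0) .nil) (nat_lit 81808) (nat_lit 10503) (nat_lit 0x4524e5) (.node .nil (nat_lit 81833) (nat_lit 334977) (nat_lit 0) .nil)) (nat_lit 81834) (nat_lit 333922) (nat_lit 0)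
  (.node (.node .nil (nat_lit 81857) (nat_lit 0xa32462) (nat_lit 0) .nil) (nat_lit 81858) (nat_lit 239908) (nat_lit 0) (.node .nil (nat_lit 81867) (nat_lit 0xa32062) (nat_lit 0) .nil))) (nat_lit
  81868) (nat_lit 0xa41482) (nat_lit 0) (.node (.node (.node .nil (nat_lit 81994) (nat_lit 0x4524c5) (nat_lit 0) .nil) (nat_lit 81995) (nat_lit 0x6a29146) (nat_lit 0) (.node .nil (nat_lit 82114)
  (nat_lit 0x4520c5) (nat_lit 0) .nil)) (nat_lit 82115) (nat_lit 0x8a19906) (nat_lit 0) (.node (.node .nil (nat_lit 82116) (nat_lit 141509) (nat_lit 0) .nil) (nat_lit 82117) (nat_lit 0xc451483)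
  (nat_lit 0) .nil)))) (nat_lit 82136) (nat_lit 0x229144) (nat_lit 0) (.node (.node (.node (.node (.node .nil (nat_lit 82137) (nat_lit 4419) (nat_lit 0) .nil) (nat_lit 82176) (nat_lit 0xc4524a4)
  (nat_lit 0) (.node .nil (nat_lit 82177) (nat_lit 141603) (nat_lit 0) .nil)) (nat_lit 82184) (nat_lit 0x8a320a4) (nat_lit 0) (.node (.node .nil (nat_lit 82185) (nat_lit 141571) (nat_lit 0) .nil)
  (nat_lit 82309) (nat_lit 0x8a29126) (nat_lit 0) (.node .nil (nat_lit 82310) (nat_lit 0x522925) (nat_lit 0) .nil))) (nat_lit 82429) (nat_lit 0x8a28d06) (nat_lit 0) (.node (.node (.node .nil (nat_lit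
  82430) (nat_lit 0x451d05) (nat_lit 0) .nil) (nat_lit 82431) (nat_lit 0x8a39483) (nat_lit 0) (.node .nil (nat_lit 82432) (nat_lit 141478) (nat_lit 0) .nil)) (nat_lit 82451) (nat_lit 141409) (nat_lit
  0) (.node (.node .nil (nat_lit 82452) (nat_lit 0x5228a4) (nat_lit 0) .nil) (nat_lit 82491) (nat_lit 337002) (nat_lit 0) .nil))) (nat_lit 82492) (nat_lit 0x8a3a4a4) (nat_lit 0) (.node (.node (.node
  (.node .nil (nat_lit 82499) (nat_lit 0x452061) (nat_lit 0) .nil) (nat_lit 82500) (nat_lit 0x893a8a4) (nat_lit 0) (.node .nil (nat_lit 82716) (nat_lit 0xa1a902) (nat_lit 0) .nil)) (nat_lit 82717)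
  (nat_lit 0x351905) (nat_lit 0) (.node (.node .nil (nat_lit 82718) (nat_lit 108773) (nat_lit 0) .nil) (nat_lit 82719) (nat_lit 0x6a31483) (nat_lit 0) (.node .nil (nat_lit 82722) (nat_lit 0x8a29145)
  (nat_lit 0) .nil))) (nat_lit 82723) (nat_lit 200009) (nat_lit 0) (.node (.node (.node .nil (nat_lit 82768) (nat_lit 200004) (nat_lit 0) .nil) (nat_lit 82769) (nat_lit 0x351cc3) (nat_lit 0) (.node
  .nil (nat_lit 82808) (nat_lit 0x6a39923) (nat_lit 0) .nil)) (nat_lit 82809) (nat_lit 0x6a324a4) (nat_lit 0) (.node (.node .nil (nat_lit 82816) (nat_lit 0x6a320c3) (nat_lit 332102) .nil) (nat_lit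
  82817) (nat_lit 0x6a3a0a4) (nat_lit 0) .nil))))) (nat_lit 83031) (nat_lit 0x51a905) (nat_lit 0) (.node (.node (.node (.node (.node (.node .nil (nat_lit 83032) (nat_lit 0x350d02) (nat_lit 0) .nil)
  (nat_lit 83033) (nat_lit 0xa351483) (nat_lit 0) (.node .nil (nat_lit 83034) (nat_lit 108711) (nat_lit 0) .nil)) (nat_lit 83037) (nat_lit 108834) (nat_lit 0) (.node (.node .nil (nat_lit 83038)
  (nat_lit 0x6a29125) (nat_lit 0) .nil) (nat_lit 83083) (nat_lit 0x3518e3) (nat_lit 0) (.node .nil (nat_lit 83084) (nat_lit 108674) (nat_lit 0) .nil))) (nat_lit 83123) (nat_lit 0x6a49ca4) (nat_lit 0)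
  (.node (.node (.node .nil (nat_lit 83124) (nat_lit 0x6a3a4e3) (nat_lit 0) .nil) (nat_lit 83131) (nat_lit 0x6a418a4) (nat_lit 0) (.node .nil (nat_lit 83132) (nat_lit 0xa3520c3) (nat_lit 332101)
  .nil)) (nat_lit 83264) (nat_lit 0x288a41c62) (nat_lit 4421) (.node (.node .nil (nat_lit 83265) (nat_lit 103562) (nat_lit 0) .nil) (nat_lit 83368) (nat_lit 0x123510c3) (nat_lit 0) .nil))) (nat_lit
  83369) (nat_lit 0x91a845) (nat_lit 0) (.node (.node (.node (.node .nil (nat_lit 83378) (nat_lit 268426) (nat_lit 0) .nil) (nat_lit 83379) (nat_lit 333962) (nat_lit 0) (.node .nil (nat_lit 83400)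
  (nat_lit 0x41a8c4) (nat_lit 0) .nil)) (nat_lit 83401) (nat_lit 0x8351c62) (nat_lit 0) (.node (.node .nil (nat_lit 83426) (nat_lit 0x10522862) (nat_lit 0) .nil) (nat_lit 83427) (nat_lit 0x14522862)
  (nat_lit 0) (.node .nil (nat_lit 83450) (nat_lit 0x91a8e4) (nat_lit 0) .nil))) (nat_lit 83451) (nat_lit 0x1251a862) (nat_lit 0) (.node (.node (.node .nil (nat_lit 83579) (nat_lit 200810) (nat_lit 0)
  .nil) (nat_lit 83580) (nat_lit 0x106a29062) (nat_lit 4422) (.node .nil (nat_lit 83683) (nat_lit 0x91a8a2) (nat_lit 0) .nil)) (nat_lit 83684) (nat_lit 0xe91a883) (nat_lit 0) (.node (.node .nil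
  (nat_lit 83693) (nat_lit 332103) (nat_lit 0) .nil) (nat_lit 83694) (nat_lit 266567) (nat_lit 0) .nil)))) (nat_lit 83715) (nat_lit 0x6622862) (nat_lit 0) (.node (.node (.node (.node (.node .nil
  (nat_lit 83716) (nat_lit 0x720d44) (nat_lit 0) .nil) (nat_lit 83741) (nat_lit 0x10451482) (nat_lit 0) (.node .nil (nat_lit 83742) (nat_lit 0x14451482) (nat_lit 0) .nil)) (nat_lit 83765) (nat_lit
  0x12351862) (nat_lit 0) (.node (.node .nil (nat_lit 83766) (nat_lit 0x648d44) (nat_lit 0) .nil) (nat_lit 83872) (nat_lit 239754) (nat_lit 0) (.node .nil (nat_lit 83873) (nat_lit 266566) (nat_lit 0)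
  .nil))) (nat_lit 83894) (nat_lit 0xc91a883) (nat_lit 0x351d25) (.node (.node (.node .nil (nat_lit 83895) (nat_lit 298310) (nat_lit 0) .nil) (nat_lit 83998) (nat_lit 134470) (nat_lit 0) (.node .nil
  (nat_lit 83999) (nat_lit 0x6622883) (nat_lit 0) .nil)) (nat_lit 84030) (nat_lit 0x91a886) (nat_lit 0) (.node (.node .nil (nat_lit 84031) (nat_lit 0x91a866) (nat_lit 0) .nil) (nat_lit 84054) (nat_lit
  0xa228a3) (nat_lit 0) .nil))) (nat_lit 84055) (nat_lit 0xa29144) (nat_lit 0) (.node (.node (.node (.node .nil (nat_lit 84080) (nat_lit 0x41a866) (nat_lit 0) .nil) (nat_lit 84081) (nat_lit 0x620d44)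
  (nat_lit 0) (.node .nil (nat_lit 84187) (nat_lit 0x8228c1) (nat_lit 0) .nil)) (nat_lit 84188) (nat_lit 332102) (nat_lit 0) (.node (.node .nil (nat_lit 84209) (nat_lit 300138) (nat_lit 0) .nil)
  (nat_lit 84210) (nat_lit 0x12351c83) (nat_lit 0x3524e5) (.node .nil (nat_lit 84313) (nat_lit 0x8351c83) (nat_lit 0) .nil))) (nat_lit 84314) (nat_lit 233578) (nat_lit 0) (.node (.node (.node .nil
  (nat_lit 84345) (nat_lit 0x91a8a3) (nat_lit 0) .nil) (nat_lit 84346) (nat_lit 0x748d44) (nat_lit 0) (.node .nil (nat_lit 84369) (nat_lit 0x8228a3) (nat_lit 0) .nil)) (nat_lit 84370) (nat_lit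
  0x829144) (nat_lit 0) (.node (.node .nil (nat_lit 84395) (nat_lit 0x329144) (nat_lit 0) .nil) (nat_lit 84396) (nat_lit 0x41a8a3) (nat_lit 0) .nil))))))
def tK_13 : T := (.node (.node (.node (.node (.node (.node (.node .nil (nat_lit 84537) (nat_lit 108777) (nat_lit 0) .nil) (nat_lit 84538) (nat_lit 301194) (nat_lit 0) (.node .nil (nat_lit 84539)
  (nat_lit 0x350d07) (nat_lit 0) .nil)) (nat_lit 84540) (nat_lit 108613) (nat_lit 0) (.node (.node .nil (nat_lit 84541) (nat_lit 0x3510c3) (nat_lit 0) .nil) (nat_lit 84664) (nat_lit 0x6a408a4)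
  (nat_lit 0) (.node .nil (nat_lit 84665) (nat_lit 0xa352062) (nat_lit 0) .nil))) (nat_lit 84672) (nat_lit 0x3524c4) (nat_lit 0) (.node (.node (.node .nil (nat_lit 84673) (nat_lit 0x6a49c62) (nat_lit
  0) .nil) (nat_lit 84712) (nat_lit 108772) (nat_lit 0) (.node .nil (nat_lit 84713) (nat_lit 0x51a862) (nat_lit 0) .nil)) (nat_lit 84851) (nat_lit 0x351d21) (nat_lit 0) (.node (.node .nil (nat_lit
  84852) (nat_lit 0x6a29122) (nat_lit 0) .nil) (nat_lit 84853) (nat_lit 0xa1a907) (nat_lit 0) .nil))) (nat_lit 84854) (nat_lit 108807) (nat_lit 0) (.node (.node (.node (.node .nil (nat_lit 84855)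
  (nat_lit 0x33a883) (nat_lit 0) .nil) (nat_lit 84856) (nat_lit 108706) (nat_lit 0) (.node .nil (nat_lit 84979) (nat_lit 0x6a32062) (nat_lit 0) .nil)) (nat_lit 84980) (nat_lit 0x6a41482) (nat_lit 0)
  (.node (.node .nil (nat_lit 84987) (nat_lit 0x6a32462) (nat_lit 0) .nil) (nat_lit 84988) (nat_lit 0x33a924) (nat_lit 0) (.node .nil (nat_lit 85027) (nat_lit 0x351862) (nat_lit 0) .nil))) (nat_lit
  85028) (nat_lit 0x351c81) (nat_lit 0) (.node (.node (.node .nil (nat_lit 85140) (nat_lit 0x450d05) (nat_lit 0) .nil) (nat_lit 85141) (nat_lit 0x4520a2) (nat_lit 0) (.node .nil (nat_lit 85142)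
  (nat_lit 168257) (nat_lit 0) .nil)) (nat_lit 85143) (nat_lit 0x8a29062) (nat_lit 0) (.node (.node .nil (nat_lit 85260) (nat_lit 141607) (nat_lit 0) .nil) (nat_lit 85261) (nat_lit 0x351147) (nat_lit
  0) .nil)))) (nat_lit 85296) (nat_lit 0x8a41862) (nat_lit 0) (.node (.node (.node (.node (.node .nil (nat_lit 85297) (nat_lit 0xa20d45) (nat_lit 335141) .nil) (nat_lit 85304) (nat_lit 0xc452462)
  (nat_lit 0) (.node .nil (nat_lit 85305) (nat_lit 0x8a49482) (nat_lit 108806) .nil)) (nat_lit 85344) (nat_lit 0x451881) (nat_lit 0x41a8e5) (.node (.node .nil (nat_lit 85345) (nat_lit 0x622862)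
  (nat_lit 0) .nil) (nat_lit 85455) (nat_lit 0x452045) (nat_lit 0) (.node .nil (nat_lit 85456) (nat_lit 0x451868) (nat_lit 0) .nil))) (nat_lit 85457) (nat_lit 0x8a19882) (nat_lit 0) (.node (.node
  (.node .nil (nat_lit 85458) (nat_lit 5258) (nat_lit 0) .nil) (nat_lit 85575) (nat_lit 0x451127) (nat_lit 0) (.node .nil (nat_lit 85576) (nat_lit 141513) (nat_lit 0) .nil)) (nat_lit 85611) (nat_lit
  0x4520e4) (nat_lit 337125) (.node (.node .nil (nat_lit 85612) (nat_lit 0x8a3a062) (nat_lit 0) .nil) (nat_lit 85619) (nat_lit 0x8a19922) (nat_lit 108805) .nil))) (nat_lit 85620) (nat_lit 0x8a3a462)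
  (nat_lit 0) (.node (.node (.node (.node .nil (nat_lit 85659) (nat_lit 0x451c62) (nat_lit 0) .nil) (nat_lit 85660) (nat_lit 141508) (nat_lit 0x620d45) (.node .nil (nat_lit 85766) (nat_lit 9450)
  (nat_lit 0) .nil)) (nat_lit 85767) (nat_lit 0xa19902) (nat_lit 0) (.node (.node .nil (nat_lit 85886) (nat_lit 336965) (nat_lit 298309) .nil) (nat_lit 85887) (nat_lit 0xa224a1) (nat_lit 0) (.node
  .nil (nat_lit 85902) (nat_lit 10465) (nat_lit 0) .nil))) (nat_lit 85903) (nat_lit 330916) (nat_lit 0) (.node (.node (.node .nil (nat_lit 85928) (nat_lit 336068) (nat_lit 0) .nil) (nat_lit 85929)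
  (nat_lit 0xa41c62) (nat_lit 0) (.node .nil (nat_lit 85938) (nat_lit 0x752462) (nat_lit 0) .nil)) (nat_lit 85939) (nat_lit 337124) (nat_lit 0) (.node (.node .nil (nat_lit 85962) (nat_lit 329892)
  (nat_lit 0) .nil) (nat_lit 85963) (nat_lit 239714) (nat_lit 0) .nil))))) (nat_lit 86081) (nat_lit 0xa28d02) (nat_lit 0) (.node (.node (.node (.node (.node (.node .nil (nat_lit 86082) (nat_lit 10440)
  (nat_lit 0) .nil) (nat_lit 86201) (nat_lit 332069) (nat_lit 0) (.node .nil (nat_lit 86202) (nat_lit 337058) (nat_lit 298310) .nil)) (nat_lit 86217) (nat_lit 333955) (nat_lit 0) (.node (.node .nil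
  (nat_lit 86218) (nat_lit 327) (nat_lit 0) .nil) (nat_lit 86243) (nat_lit 0xa21902) (nat_lit 0) (.node .nil (nat_lit 86244) (nat_lit 335108) (nat_lit 0) .nil))) (nat_lit 86253) (nat_lit 334116)
  (nat_lit 0) (.node (.node (.node .nil (nat_lit 86254) (nat_lit 0xa49862) (nat_lit 0) .nil) (nat_lit 86277) (nat_lit 171331) (nat_lit 0) (.node .nil (nat_lit 86278) (nat_lit 332930) (nat_lit 0)
  .nil)) (nat_lit 86394) (nat_lit 10469) (nat_lit 0) (.node (.node .nil (nat_lit 86395) (nat_lit 0xa31483) (nat_lit 0) .nil) (nat_lit 86410) (nat_lit 336961) (nat_lit 0) .nil))) (nat_lit 86411)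
  (nat_lit 0xa39489) (nat_lit 0) (.node (.node (.node (.node .nil (nat_lit 86530) (nat_lit 334085) (nat_lit 0) .nil) (nat_lit 86531) (nat_lit 0xa1a041) (nat_lit 0) (.node .nil (nat_lit 86544) (nat_lit
  0xa3a0a4) (nat_lit 0) .nil)) (nat_lit 86545) (nat_lit 0xa320c3) (nat_lit 0) (.node (.node .nil (nat_lit 86566) (nat_lit 0xa39923) (nat_lit 0) .nil) (nat_lit 86567) (nat_lit 0xa324a4) (nat_lit 0)
  (.node .nil (nat_lit 86606) (nat_lit 331841) (nat_lit 0) .nil))) (nat_lit 86607) (nat_lit 335043) (nat_lit 0) (.node (.node (.node .nil (nat_lit 86709) (nat_lit 0xa29883) (nat_lit 0) .nil) (nat_lit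
  86710) (nat_lit 10407) (nat_lit 0) (.node .nil (nat_lit 86725) (nat_lit 0xa29125) (nat_lit 0) .nil)) (nat_lit 86726) (nat_lit 10530) (nat_lit 0) (.node (.node .nil (nat_lit 86845) (nat_lit 331010)
  (nat_lit 0) .nil) (nat_lit 86846) (nat_lit 302405) (nat_lit 0) .nil)))) (nat_lit 86859) (nat_lit 0x93a8c3) (nat_lit 0) (.node (.node (.node (.node (.node .nil (nat_lit 86860) (nat_lit 0xa418a4)
  (nat_lit 0) .nil) (nat_lit 86881) (nat_lit 0xa49ca4) (nat_lit 0) (.node .nil (nat_lit 86882) (nat_lit 0xa3a4e3) (nat_lit 0) .nil)) (nat_lit 86921) (nat_lit 334051) (nat_lit 0) (.node (.node .nil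
  (nat_lit 86922) (nat_lit 10370) (nat_lit 0) .nil) (nat_lit 87036) (nat_lit 0x451925) (nat_lit 0) (.node .nil (nat_lit 87037) (nat_lit 0x6a29147) (nat_lit 0) .nil))) (nat_lit 87154) (nat_lit 168261)
  (nat_lit 0) (.node (.node (.node .nil (nat_lit 87155) (nat_lit 0x451062) (nat_lit 0) .nil) (nat_lit 87156) (nat_lit 0x8a28d05) (nat_lit 0) (.node .nil (nat_lit 87157) (nat_lit 141570) (nat_lit 0)
  .nil)) (nat_lit 87176) (nat_lit 0x893a8e3) (nat_lit 0) (.node (.node .nil (nat_lit 87177) (nat_lit 0x8a41ca4) (nat_lit 0) .nil) (nat_lit 87200) (nat_lit 0x8a324c3) (nat_lit 0) .nil))) (nat_lit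
  87201) (nat_lit 0x452482) (nat_lit 0) (.node (.node (.node (.node .nil (nat_lit 87224) (nat_lit 0x4518a4) (nat_lit 0) .nil) (nat_lit 87225) (nat_lit 0x5228c3) (nat_lit 0) (.node .nil (nat_lit 87351)
  (nat_lit 0x8a29127) (nat_lit 0) .nil)) (nat_lit 87352) (nat_lit 0x4524e5) (nat_lit 0) (.node (.node .nil (nat_lit 87469) (nat_lit 0xa41142) (nat_lit 0) .nil) (nat_lit 87470) (nat_lit 70794) (nat_lit
  0) (.node .nil (nat_lit 87471) (nat_lit 0x452041) (nat_lit 0) .nil))) (nat_lit 87472) (nat_lit 0x8a19905) (nat_lit 0) (.node (.node (.node .nil (nat_lit 87491) (nat_lit 0x8a414e4) (nat_lit 0) .nil)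
  (nat_lit 87492) (nat_lit 0x8a320e3) (nat_lit 0) (.node .nil (nat_lit 87515) (nat_lit 0x830d44) (nat_lit 0) .nil)) (nat_lit 87516) (nat_lit 0x8a49cc3) (nat_lit 0) (.node (.node .nil (nat_lit 87539)
  (nat_lit 0x431d43) (nat_lit 0) .nil) (nat_lit 87540) (nat_lit 0x4514c4) (nat_lit 0) .nil))))))
def tK_14 : T := (.node (.node (.node (.node (.node (.node (.node .nil (nat_lit 87757) (nat_lit 0x6751483) (nat_lit 0) .nil) (nat_lit 87758) (nat_lit 0x3520e5) (nat_lit 0) (.node .nil (nat_lit 87759)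
  (nat_lit 0x6a28d07) (nat_lit 0) .nil)) (nat_lit 87760) (nat_lit 0x451142) (nat_lit 0) (.node (.node .nil (nat_lit 87761) (nat_lit 0x3514e9) (nat_lit 0) .nil) (nat_lit 87808) (nat_lit 0x61a904)
  (nat_lit 0) (.node .nil (nat_lit 87809) (nat_lit 0x6a41cc3) (nat_lit 0) .nil))) (nat_lit 87832) (nat_lit 0x67524a4) (nat_lit 0) (.node (.node (.node .nil (nat_lit 87833) (nat_lit 0xe33a923) (nat_lit
  0) .nil) (nat_lit 87856) (nat_lit 0x3514e4) (nat_lit 0) (.node .nil (nat_lit 87857) (nat_lit 0x719d43) (nat_lit 327) .nil)) (nat_lit 88071) (nat_lit 0x623a883) (nat_lit 0) (.node (.node .nil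
  (nat_lit 88072) (nat_lit 3394) (nat_lit 0) .nil) (nat_lit 88073) (nat_lit 0x6a19907) (nat_lit 0) .nil))) (nat_lit 88074) (nat_lit 0x931145) (nat_lit 0) (.node (.node (.node (.node .nil (nat_lit
  88075) (nat_lit 0x351d25) (nat_lit 0) .nil) (nat_lit 88076) (nat_lit 0x351122) (nat_lit 0) (.node .nil (nat_lit 88123) (nat_lit 0x126228c3) (nat_lit 0) .nil)) (nat_lit 88124) (nat_lit 0x352082)
  (nat_lit 0) (.node (.node .nil (nat_lit 88147) (nat_lit 0x6a3a4c3) (nat_lit 0) .nil) (nat_lit 88148) (nat_lit 0x6a498a4) (nat_lit 0) (.node .nil (nat_lit 88171) (nat_lit 0x33a8e3) (nat_lit 234)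
  .nil))) (nat_lit 88172) (nat_lit 0x351ca4) (nat_lit 0) (.node (.node (.node .nil (nat_lit 88298) (nat_lit 0x720d45) (nat_lit 0) .nil) (nat_lit 88299) (nat_lit 0x106a39483) (nat_lit 0) (.node .nil
  (nat_lit 88402) (nat_lit 0x246a39483) (nat_lit 0) .nil)) (nat_lit 88403) (nat_lit 0x928d45) (nat_lit 0) (.node (.node .nil (nat_lit 88424) (nat_lit 0x23a88a) (nat_lit 0) .nil) (nat_lit 88425)
  (nat_lit 0x8228a6) (nat_lit 0) .nil)))) (nat_lit 88442) (nat_lit 0xe91a8a4) (nat_lit 0) (.node (.node (.node (.node (.node .nil (nat_lit 88443) (nat_lit 332105) (nat_lit 0) .nil) (nat_lit 88450)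
  (nat_lit 0x145228a3) (nat_lit 0) (.node .nil (nat_lit 88451) (nat_lit 332100) (nat_lit 0) .nil)) (nat_lit 88488) (nat_lit 141418) (nat_lit 0) (.node (.node .nil (nat_lit 88489) (nat_lit 0x65228a4)
  (nat_lit 0) .nil) (nat_lit 88613) (nat_lit 0xcc451483) (nat_lit 0) (.node .nil (nat_lit 88614) (nat_lit 0x41a8c5) (nat_lit 0) .nil))) (nat_lit 88717) (nat_lit 0x91a8c5) (nat_lit 0) (.node (.node
  (.node .nil (nat_lit 88718) (nat_lit 0x192351483) (nat_lit 0) .nil) (nat_lit 88739) (nat_lit 0x8228c5) (nat_lit 0) (.node .nil (nat_lit 88740) (nat_lit 0xa29146) (nat_lit 0) .nil)) (nat_lit 88757)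
  (nat_lit 298307) (nat_lit 0) (.node (.node .nil (nat_lit 88758) (nat_lit 0x4748d44) (nat_lit 0) .nil) (nat_lit 88765) (nat_lit 266563) (nat_lit 0) .nil))) (nat_lit 88766) (nat_lit 0x14229143)
  (nat_lit 0) (.node (.node (.node (.node .nil (nat_lit 88803) (nat_lit 0xc41a8a4) (nat_lit 0) .nil) (nat_lit 88804) (nat_lit 134467) (nat_lit 0) (.node .nil (nat_lit 88916) (nat_lit 0xa224c1)
  (nat_lit 0) .nil)) (nat_lit 88917) (nat_lit 7497) (nat_lit 0) (.node (.node .nil (nat_lit 88932) (nat_lit 10433) (nat_lit 108773) .nil) (nat_lit 88933) (nat_lit 334979) (nat_lit 0) (.node .nil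
  (nat_lit 89036) (nat_lit 10472) (nat_lit 0) .nil))) (nat_lit 89037) (nat_lit 239720) (nat_lit 0) (.node (.node (.node .nil (nat_lit 89078) (nat_lit 337059) (nat_lit 0) .nil) (nat_lit 89079) (nat_lit
  335140) (nat_lit 0) (.node .nil (nat_lit 89088) (nat_lit 336035) (nat_lit 0) .nil)) (nat_lit 89089) (nat_lit 302404) (nat_lit 0) (.node (.node .nil (nat_lit 89102) (nat_lit 10403) (nat_lit 0) .nil)
  (nat_lit 89103) (nat_lit 7492) (nat_lit 0) .nil))))) (nat_lit 89231) (nat_lit 10534) (nat_lit 0) (.node (.node (.node (.node (.node (.node .nil (nat_lit 89232) (nat_lit 332070) (nat_lit 0) .nil)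
  (nat_lit 89247) (nat_lit 331878) (nat_lit 0) (.node .nil (nat_lit 89248) (nat_lit 326) (nat_lit 105797) .nil)) (nat_lit 89351) (nat_lit 331014) (nat_lit 0) (.node (.node .nil (nat_lit 89352)
  (nat_lit 10502) (nat_lit 0) .nil) (nat_lit 89393) (nat_lit 337030) (nat_lit 0) (.node .nil (nat_lit 89394) (nat_lit 336998) (nat_lit 0) .nil))) (nat_lit 89403) (nat_lit 334084) (nat_lit 0) (.node
  (.node (.node .nil (nat_lit 89404) (nat_lit 335974) (nat_lit 0) .nil) (nat_lit 89417) (nat_lit 10374) (nat_lit 0) (.node .nil (nat_lit 89418) (nat_lit 10342) (nat_lit 0) .nil)) (nat_lit 89554)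
  (nat_lit 0x4522883) (nat_lit 0) (.node (.node .nil (nat_lit 89555) (nat_lit 4418) (nat_lit 0) .nil) (nat_lit 89556) (nat_lit 0x4520a7) (nat_lit 0) .nil))) (nat_lit 89557) (nat_lit 0x8a19907)
  (nat_lit 0) (.node (.node (.node (.node .nil (nat_lit 89676) (nat_lit 0x451d25) (nat_lit 0) .nil) (nat_lit 89677) (nat_lit 0x451122) (nat_lit 0) (.node .nil (nat_lit 89696) (nat_lit 0x8a498a4)
  (nat_lit 0) .nil)) (nat_lit 89697) (nat_lit 0x8a3a4c3) (nat_lit 0) (.node (.node .nil (nat_lit 89720) (nat_lit 0x8a418e3) (nat_lit 0) .nil) (nat_lit 89721) (nat_lit 0x452082) (nat_lit 0) (.node .nil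
  (nat_lit 89736) (nat_lit 0x5228e3) (nat_lit 0) .nil))) (nat_lit 89737) (nat_lit 0x451ca4) (nat_lit 0) (.node (.node (.node .nil (nat_lit 89869) (nat_lit 141377) (nat_lit 0) .nil) (nat_lit 89870)
  (nat_lit 0xa451483) (nat_lit 0) (.node .nil (nat_lit 89871) (nat_lit 0x8a28d07) (nat_lit 0) .nil)) (nat_lit 89872) (nat_lit 0x4520e5) (nat_lit 0) (.node (.node .nil (nat_lit 89991) (nat_lit
  0x351142) (nat_lit 0) .nil) (nat_lit 89992) (nat_lit 0x622925) (nat_lit 0) .nil)))) (nat_lit 90011) (nat_lit 0xc4524c3) (nat_lit 0) (.node (.node (.node (.node (.node .nil (nat_lit 90012) (nat_lit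
  0xa4524a4) (nat_lit 0) .nil) (nat_lit 90035) (nat_lit 0xa20d42) (nat_lit 0) (.node .nil (nat_lit 90036) (nat_lit 0x8a41cc3) (nat_lit 0) .nil)) (nat_lit 90051) (nat_lit 0x6228a4) (nat_lit 0) (.node
  (.node .nil (nat_lit 90052) (nat_lit 0x531143) (nat_lit 0) .nil) (nat_lit 90278) (nat_lit 0x8a29147) (nat_lit 0) (.node .nil (nat_lit 90279) (nat_lit 0x351925) (nat_lit 0) .nil))) (nat_lit 90280)
  (nat_lit 0x6a28d05) (nat_lit 0) (.node (.node (.node .nil (nat_lit 90281) (nat_lit 108802) (nat_lit 0) .nil) (nat_lit 90282) (nat_lit 0x351062) (nat_lit 0) (.node .nil (nat_lit 90283) (nat_lit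
  105797) (nat_lit 0) .nil)) (nat_lit 90328) (nat_lit 0x6a324c3) (nat_lit 141512) (.node (.node .nil (nat_lit 90329) (nat_lit 0x352482) (nat_lit 0) .nil) (nat_lit 90352) (nat_lit 0x6a41ca4) (nat_lit
  0) .nil))) (nat_lit 90353) (nat_lit 0xa3520e3) (nat_lit 0) (.node (.node (.node (.node .nil (nat_lit 90368) (nat_lit 0x33a8c3) (nat_lit 0) .nil) (nat_lit 90369) (nat_lit 0x3518a4) (nat_lit 0) (.node
  .nil (nat_lit 90593) (nat_lit 0x3524e5) (nat_lit 0) .nil)) (nat_lit 90594) (nat_lit 0x6a29127) (nat_lit 0) (.node (.node .nil (nat_lit 90595) (nat_lit 200008) (nat_lit 0) .nil) (nat_lit 90596)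
  (nat_lit 0x6a19905) (nat_lit 0) (.node .nil (nat_lit 90597) (nat_lit 100586) (nat_lit 0) .nil))) (nat_lit 90598) (nat_lit 0xa1a882) (nat_lit 0) (.node (.node (.node .nil (nat_lit 90643) (nat_lit
  0xa1a922) (nat_lit 0) .nil) (nat_lit 90644) (nat_lit 0x6a49cc3) (nat_lit 141575) (.node .nil (nat_lit 90667) (nat_lit 0x6a320e3) (nat_lit 0) .nil)) (nat_lit 90668) (nat_lit 0x126228a4) (nat_lit 0)
  (.node (.node .nil (nat_lit 90683) (nat_lit 0x51a8a4) (nat_lit 0) .nil) (nat_lit 90684) (nat_lit 0x331d43) (nat_lit 0) .nil))))))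
def tK_15 : T := (.node (.node (.node (.node (.node (.node (.node .nil (nat_lit 90809) (nat_lit 0x331145) (nat_lit 0) .nil) (nat_lit 90922) (nat_lit 0xa1148a) (nat_lit 0) (.node .nil (nat_lit 90923)
  (nat_lit 266562) (nat_lit 0) .nil)) (nat_lit 90944) (nat_lit 0x748d45) (nat_lit 0) (.node (.node .nil (nat_lit 90945) (nat_lit 0x12351062) (nat_lit 0) .nil) (nat_lit 90962) (nat_lit 0x4751143)
  (nat_lit 0) (.node .nil (nat_lit 90963) (nat_lit 0x105228e3) (nat_lit 0) .nil))) (nat_lit 90970) (nat_lit 0xe91a8c3) (nat_lit 0) (.node (.node (.node .nil (nat_lit 90971) (nat_lit 0x123518a4)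
  (nat_lit 0) .nil) (nat_lit 91000) (nat_lit 0x41a882) (nat_lit 0) (.node .nil (nat_lit 91001) (nat_lit 0x66228c3) (nat_lit 0) .nil)) (nat_lit 91123) (nat_lit 0x41a8e5) (nat_lit 0) (.node (.node .nil
  (nat_lit 91124) (nat_lit 0x106a31483) (nat_lit 0) .nil) (nat_lit 91237) (nat_lit 0x822841) (nat_lit 0) .nil))) (nat_lit 91238) (nat_lit 0xa29145) (nat_lit 0) (.node (.node (.node (.node .nil
  (nat_lit 91259) (nat_lit 0x14452482) (nat_lit 0) .nil) (nat_lit 91260) (nat_lit 0x23a46a) (nat_lit 0) (.node .nil (nat_lit 91277) (nat_lit 0xe829143) (nat_lit 0) .nil)) (nat_lit 91278) (nat_lit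
  0x145228c3) (nat_lit 0) (.node (.node .nil (nat_lit 91285) (nat_lit 0x1251a8a4) (nat_lit 0) .nil) (nat_lit 91286) (nat_lit 0xe928d43) (nat_lit 0) (.node .nil (nat_lit 91315) (nat_lit 0x8351cc3)
  (nat_lit 0) .nil))) (nat_lit 91316) (nat_lit 0xa22902) (nat_lit 0) (.node (.node (.node .nil (nat_lit 91432) (nat_lit 0x748d41) (nat_lit 0) .nil) (nat_lit 91433) (nat_lit 0x246a29062) (nat_lit
  108838) (.node .nil (nat_lit 91454) (nat_lit 0xa228a1) (nat_lit 336101) .nil)) (nat_lit 91455) (nat_lit 0x8228a2) (nat_lit 0) (.node (.node .nil (nat_lit 91568) (nat_lit 0x8351883) (nat_lit 168261)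
  .nil) (nat_lit 91569) (nat_lit 134471) (nat_lit 0) .nil)))) (nat_lit 91590) (nat_lit 0x751143) (nat_lit 0) (.node (.node (.node (.node (.node .nil (nat_lit 91591) (nat_lit 0x10451862) (nat_lit 0)
  .nil) (nat_lit 91614) (nat_lit 0xc91a862) (nat_lit 0) (.node .nil (nat_lit 91615) (nat_lit 0x928d44) (nat_lit 0) .nil)) (nat_lit 91616) (nat_lit 0x8351482) (nat_lit 0) (.node (.node .nil (nat_lit
  91617) (nat_lit 0xc41a862) (nat_lit 0) .nil) (nat_lit 91747) (nat_lit 0x246a19882) (nat_lit 108837) (.node .nil (nat_lit 91748) (nat_lit 238698) (nat_lit 0) .nil))) (nat_lit 91769) (nat_lit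
  0x822845) (nat_lit 0) (.node (.node (.node .nil (nat_lit 91770) (nat_lit 332101) (nat_lit 334085) .nil) (nat_lit 91883) (nat_lit 104586) (nat_lit 0) (.node .nil (nat_lit 91884) (nat_lit 0xe41a883)
  (nat_lit 141541) .nil)) (nat_lit 91905) (nat_lit 0x14622882) (nat_lit 0) (.node (.node .nil (nat_lit 91906) (nat_lit 0xa228c3) (nat_lit 0) .nil) (nat_lit 91929) (nat_lit 0x91a8c4) (nat_lit 0)
  .nil))) (nat_lit 91930) (nat_lit 0x12351c62) (nat_lit 0) (.node (.node (.node (.node .nil (nat_lit 91931) (nat_lit 0x6522862) (nat_lit 0) .nil) (nat_lit 91932) (nat_lit 0x144520e2) (nat_lit 0)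
  (.node .nil (nat_lit 92094) (nat_lit 0x6a29062) (nat_lit 0) .nil)) (nat_lit 92095) (nat_lit 105793) (nat_lit 0) (.node (.node .nil (nat_lit 92096) (nat_lit 0x350d05) (nat_lit 0) .nil) (nat_lit
  92097) (nat_lit 0x3520a2) (nat_lit 0) (.node .nil (nat_lit 92098) (nat_lit 0x451147) (nat_lit 0) .nil))) (nat_lit 92099) (nat_lit 108839) (nat_lit 0) (.node (.node (.node .nil (nat_lit 92224)
  (nat_lit 0x6a11d23) (nat_lit 0) .nil) (nat_lit 92225) (nat_lit 0x6a49482) (nat_lit 0) (.node .nil (nat_lit 92232) (nat_lit 0x931144) (nat_lit 0) .nil)) (nat_lit 92233) (nat_lit 0x6a41862) (nat_lit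
  0) (.node (.node .nil (nat_lit 92248) (nat_lit 0x750d42) (nat_lit 0) .nil) (nat_lit 92249) (nat_lit 167236) (nat_lit 0) .nil))))) (nat_lit 92409) (nat_lit 3306) (nat_lit 0) (.node (.node (.node
  (.node (.node (.node .nil (nat_lit 92410) (nat_lit 0x6a19882) (nat_lit 0) .nil) (nat_lit 92411) (nat_lit 0x352045) (nat_lit 0) (.node .nil (nat_lit 92412) (nat_lit 0xa1a905) (nat_lit 0) .nil))
  (nat_lit 92413) (nat_lit 108745) (nat_lit 0) (.node (.node .nil (nat_lit 92414) (nat_lit 0x351127) (nat_lit 0) .nil) (nat_lit 92539) (nat_lit 0x143524e2) (nat_lit 0) (.node .nil (nat_lit 92540)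
  (nat_lit 0x6a3a462) (nat_lit 0) .nil))) (nat_lit 92547) (nat_lit 0x6a3a062) (nat_lit 0) (.node (.node (.node .nil (nat_lit 92548) (nat_lit 0x3520e4) (nat_lit 0) .nil) (nat_lit 92563) (nat_lit
  108740) (nat_lit 0) (.node .nil (nat_lit 92564) (nat_lit 0x351c62) (nat_lit 0) .nil)) (nat_lit 92700) (nat_lit 201033) (nat_lit 0) (.node (.node .nil (nat_lit 92701) (nat_lit 0x8a29122) (nat_lit 0)
  .nil) (nat_lit 92820) (nat_lit 141575) (nat_lit 0) .nil))) (nat_lit 92821) (nat_lit 0x622868) (nat_lit 0) (.node (.node (.node (.node .nil (nat_lit 92822) (nat_lit 0x522883) (nat_lit 0) .nil)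
  (nat_lit 92823) (nat_lit 141474) (nat_lit 0) (.node .nil (nat_lit 92856) (nat_lit 0x522924) (nat_lit 0) .nil)) (nat_lit 92857) (nat_lit 0x8a32462) (nat_lit 0) (.node (.node .nil (nat_lit 92864)
  (nat_lit 0x8a32062) (nat_lit 0) .nil) (nat_lit 92865) (nat_lit 0x8a41482) (nat_lit 10534) (.node .nil (nat_lit 92880) (nat_lit 0x451862) (nat_lit 0) .nil))) (nat_lit 92881) (nat_lit 201028) (nat_lit
  0) (.node (.node (.node .nil (nat_lit 93015) (nat_lit 0x6a29142) (nat_lit 0) .nil) (nat_lit 93016) (nat_lit 141545) (nat_lit 0) (.node .nil (nat_lit 93135) (nat_lit 0x450d07) (nat_lit 0) .nil))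
  (nat_lit 93136) (nat_lit 0x4520e1) (nat_lit 0) (.node (.node .nil (nat_lit 93137) (nat_lit 141381) (nat_lit 0) .nil) (nat_lit 93138) (nat_lit 0x4510c3) (nat_lit 0) .nil)))) (nat_lit 93171) (nat_lit
  0x8a49c62) (nat_lit 0) (.node (.node (.node (.node (.node .nil (nat_lit 93172) (nat_lit 0x4524c4) (nat_lit 0) .nil) (nat_lit 93179) (nat_lit 0x1441a8e2) (nat_lit 10533) (.node .nil (nat_lit 93180)
  (nat_lit 0x893a862) (nat_lit 0) .nil)) (nat_lit 93195) (nat_lit 141540) (nat_lit 0) (.node (.node .nil (nat_lit 93196) (nat_lit 0x450ca2) (nat_lit 0) .nil) (nat_lit 93340) (nat_lit 336069) (nat_lit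
  0) (.node .nil (nat_lit 93341) (nat_lit 0xa19906) (nat_lit 0) .nil))) (nat_lit 93444) (nat_lit 10437) (nat_lit 0) (.node (.node (.node .nil (nat_lit 93445) (nat_lit 0xa29c83) (nat_lit 0) .nil)
  (nat_lit 93460) (nat_lit 0xa31489) (nat_lit 0) (.node .nil (nat_lit 93461) (nat_lit 337093) (nat_lit 0) .nil)) (nat_lit 93474) (nat_lit 10531) (nat_lit 0) (.node (.node .nil (nat_lit 93475) (nat_lit
  0xa29d24) (nat_lit 0) .nil) (nat_lit 93496) (nat_lit 10499) (nat_lit 0) .nil))) (nat_lit 93497) (nat_lit 0xa320a4) (nat_lit 0) (.node (.node (.node (.node .nil (nat_lit 93514) (nat_lit 323) (nat_lit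
  0) .nil) (nat_lit 93515) (nat_lit 73028) (nat_lit 0) (.node .nil (nat_lit 93655) (nat_lit 0xa28d06) (nat_lit 0) .nil)) (nat_lit 93656) (nat_lit 335109) (nat_lit 0) (.node (.node .nil (nat_lit 93759)
  (nat_lit 0xa39483) (nat_lit 0) .nil) (nat_lit 93760) (nat_lit 10406) (nat_lit 0) (.node .nil (nat_lit 93775) (nat_lit 239909) (nat_lit 0) .nil))) (nat_lit 93776) (nat_lit 0xa29126) (nat_lit 0)
  (.node (.node (.node .nil (nat_lit 93789) (nat_lit 0xa3a4a4) (nat_lit 0) .nil) (nat_lit 93790) (nat_lit 336993) (nat_lit 0) (.node .nil (nat_lit 93811) (nat_lit 0x93a8a4) (nat_lit 0) .nil)) (nat_lit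
  93812) (nat_lit 335969) (nat_lit 0) (.node (.node .nil (nat_lit 93829) (nat_lit 239780) (nat_lit 0) .nil) (nat_lit 93830) (nat_lit 10337) (nat_lit 0) .nil))))))
def tK : T := (.node (.node (.node (.node tK_0 (nat_lit 10090) (nat_lit 168229) (nat_lit 0x21c80000000000000000000000000) tK_1) (nat_lit 16422) (nat_lit 8386) (nat_lit 0) (.node tK_2 (nat_lit 22724)
  (nat_lit 195) (nat_lit 0) tK_3)) (nat_lit 28442) (nat_lit 0x4524c3) (nat_lit 0) (.node (.node tK_4 (nat_lit 31584) (nat_lit 0x93a8a3) (nat_lit 0) tK_5) (nat_lit 37284) (nat_lit 0x6a41462) (nat_lit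
  266566) (.node tK_6 (nat_lit 60666) (nat_lit 0x331d44) (nat_lit 0) tK_7))) (nat_lit 66240) (nat_lit 0x450cc2) (nat_lit 0) (.node (.node (.node tK_8 (nat_lit 69384) (nat_lit 337025) (nat_lit 0) tK_9)
  (nat_lit 75156) (nat_lit 0x3524c5) (nat_lit 0) (.node tK_10 (nat_lit 78222) (nat_lit 335941) (nat_lit 141605) tK_11)) (nat_lit 81356) (nat_lit 331971) (nat_lit 0) (.node (.node tK_12 (nat_lit 84536)
  (nat_lit 0x8a29142) (nat_lit 0) tK_13) (nat_lit 87756) (nat_lit 6250) (nat_lit 0) (.node tK_14 (nat_lit 90808) (nat_lit 0x1c8351483) (nat_lit 0) tK_15))))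
def tQ : T := (.node (.node (.node (.node (.node (.node .nil (nat_lit 3162) (nat_lit 0) (nat_lit 0) .nil) (nat_lit 3478) (nat_lit 1) (nat_lit 0) .nil) (nat_lit 3791) (nat_lit 7362) (nat_lit 0) (.node
  .nil (nat_lit 4105) (nat_lit 6370) (nat_lit 0) .nil)) (nat_lit 5698) (nat_lit 5346) (nat_lit 0) (.node (.node .nil (nat_lit 6014) (nat_lit 7330) (nat_lit 0) .nil) (nat_lit 6963) (nat_lit 5314)
  (nat_lit 0) (.node .nil (nat_lit 7277) (nat_lit 6306) (nat_lit 0) .nil))) (nat_lit 8839) (nat_lit 166) (nat_lit 0) (.node (.node (.node .nil (nat_lit 9153) (nat_lit 197) (nat_lit 0) .nil) (nat_lit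
  10102) (nat_lit 167) (nat_lit 0) (.node .nil (nat_lit 10418) (nat_lit 229) (nat_lit 0) .nil)) (nat_lit 12011) (nat_lit 230) (nat_lit 0) (.node (.node .nil (nat_lit 12325) (nat_lit 199) (nat_lit 0)
  .nil) (nat_lit 12638) (nat_lit 2) (nat_lit 0) (.node .nil (nat_lit 12954) (nat_lit 65) (nat_lit 0) .nil)))) (nat_lit 13274) (nat_lit 69) (nat_lit 0) (.node (.node (.node (.node .nil (nat_lit 13590)
  (nat_lit 162) (nat_lit 0) .nil) (nat_lit 13903) (nat_lit 6373) (nat_lit 0) (.node .nil (nat_lit 14217) (nat_lit 7365) (nat_lit 0) .nil)) (nat_lit 16440) (nat_lit 194) (nat_lit 0) (.node (.node .nil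
  (nat_lit 16756) (nat_lit 70) (nat_lit 0) .nil) (nat_lit 17073) (nat_lit 226) (nat_lit 0) (.node .nil (nat_lit 17387) (nat_lit 71) (nat_lit 0) .nil))) (nat_lit 18953) (nat_lit 225) (nat_lit 0) (.node
  (.node (.node .nil (nat_lit 19267) (nat_lit 7) (nat_lit 0) .nil) (nat_lit 19584) (nat_lit 193) (nat_lit 0) (.node .nil (nat_lit 19900) (nat_lit 6) (nat_lit 0) .nil)) (nat_lit 22123) (nat_lit 235682)
  (nat_lit 0) (.node (.node .nil (nat_lit 22437) (nat_lit 203938) (nat_lit 0) .nil) (nat_lit 22750) (nat_lit 5) (nat_lit 0) (.node .nil (nat_lit 23066) (nat_lit 161) (nat_lit 0) .nil)))))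
def wQ : List (List ℕ) := [[], [0], [1], [4], [5], [6], [0, 1], [0, 4], [0, 5], [0, 6], [1, 4], [1, 5], [1, 6], [4, 1], [4, 5], [4, 6], [5, 1], [5, 4], [5, 6], [6, 1], [6, 4], [6, 5], [1, 4, 5], [1,
  4, 6], [1, 5, 4], [1, 5, 6], [1, 6, 4], [1, 6, 5], [4, 5, 6], [4, 6, 5], [1, 4, 5, 6], [1, 4, 6, 5]]
def wE : List (List ℕ) := [[], [0], [1], [2], [3], [0, 1], [0, 2], [0, 3], [1, 2], [1, 3], [2, 3], [0, 1, 2], [0, 1, 3], [0, 2, 3], [1, 2, 3], [0, 1, 2, 3]]
def sqV : List (List ℕ) := [[nat_lit 451], [nat_lit 452], [nat_lit 8, nat_lit 291], [nat_lit 8, nat_lit 292], [], [], [], [nat_lit 9], [nat_lit 8], [], [], [], [], [nat_lit 8, nat_lit 302], []]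
def wN : List (List ℕ) := [[], [4], [9], [4, 9], [9, 2], [9, 3], [4, 9, 2], [4, 9, 3], [9, 2, 3], [4, 9, 2, 3]]

end Cfsg.Agent.J8
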