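import Cfsg.Agent.TC.Kit

set_option autoImplicit false
set_option linter.all false
set_option maxRecDepth 100000

namespace Cfsg.Agent.TC.J8TU

open Cfsg.Agent.M24

noncomputable def row (q : ℕ) : ℕ :=
  Nat.land (Nat.shiftRight (@Bool.rec (fun _ => ℕ) (@Bool.rec (fun _ => ℕ) (nat_lit 0x400100000000000000000000002180b0a000f0001fc0704000d0001f40604000e0002142100000f0002100802000f00021c0304000f00020c0206000f0001f01d0000090002041308000500000400060000000000000000000001e42400000d0001f82300000f0001c40604000d0001dc2100000e0001d80802000e0001e80d02000e0001d40206000e0001c01d0000040001cc1308000b000000000e0000000000000000000001e00b0a000e0001c82300000e0002002200000f0001b42100000d0001b00802000d0001b80304000d0001a40202000d0001a80602000c0001a01c000008) (nat_lit 0xa00000000000000000000018c0b02000c0001841304000b00017c0902000a0001782100000c0001740802000c0001980304000c0001700202000c0001ac1d00000d00016c1c000006000004000c0000000000000000000001942400000a0001500704000a0001882200000c00015c0504000b0001602000000b0001640304000b0001580404000b00014c1d0000070001d01c00000e00000400080000000000000000000001900a04000b0001802300000c0001542200000b0001402100000a00013c0802000a0001440304000a0001380206000a00012c1d0000050001301308000900001c000c0000000000000000000001141702000800011c16020008000104220000070001102100000900010c050000090001240d060009000108040000090001ec0000000f0001341c00000a)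 (Nat.ble q (nat_lit 11))) (@Bool.rec (fun _ => ℕ) (nat_lit 0x18000c000000000000000000000118240000090000e423000007000120220000090000ec050400080000f0200000080000fc030400080000e8040400080000f40904000600019c0000000d00000000060000000000000000000000d80b020007000100000000090000e0000000080000d4210000070000d0080200070000dc030400070000cc020200070001480000000b0000c81c00000400002000040000000000000000000000a0240000030000bc170400040000a40a0200050000b8210000060000b40e0200060000b00d0200060000ac0c0200060000f81d0000080001680000000c00001c0006000000000000000000000090170200020000a8230000060000802200000400008c21000005000088050000050000980d060005000084040000050001280000000a0002081c00000f) (nat_lit 0x2000000000000000000000000000682400000100007c000000050000c022000006000078210000040000740e0200040000700d02000400006c0c0200040001bc0000000e0000c40000000700001c000000000000000000000000009c00000006000058160200020000402200000100004c2100000300004805000003000060030400030000440400000300005007060003000054130800030000180000000000000000000000000094240000050000202300000100005c220000030000280504000200002c200000020000380304000200002404040002000034070200020000300606000200000000000000000000000000000000640000000400003c0000000300001c0000000200001821000001000014010000010000100100000100000c010000010000080100000100000401000001)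 (Nat.ble q (nat_lit 3))) (Nat.ble q (nat_lit 7))) (Nat.mul (Nat.land q (nat_lit 3)) (nat_lit 616))) (nat_lit 0xffffffffffffffffffffffffffffffffffffffffffffffffffffffffffffffffffffffffffffffffffffffffffffffffffffffffffffffffffffffffffffffffffffffffffffffffffffffffff)

noncomputable def relt_1 (q : ℕ) : ℕ :=
  (@Bool.rec (fun _ => ℕ) (@Bool.rec (fun _ => ℕ) (nat_lit 0x388c2388c204) (nat_lit 0x28c8228c8204) (Nat.ble q (nat_lit 3))) (@Bool.rec (fun _ => ℕ) (nat_lit 0x100401004004) (@Bool.rec (fun _ => ℕ) (nat_lit 0x0) (nat_lit 0x0) (Nat.ble q (nat_lit 0))) (Nat.ble q (nat_lit 1))) (Nat.ble q (nat_lit 2)))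

noncomputable def relt_2 (q : ℕ) : ℕ :=
  (@Bool.rec (fun _ => ℕ) (@Bool.rec (fun _ => ℕ) (nat_lit 0xc609806304c005) (nat_lit 0x84010042008005) (Nat.ble q (nat_lit 8))) (@Bool.rec (fun _ => ℕ) (nat_lit 0xc13840609c2005) (@Bool.rec (fun _ => ℕ) (nat_lit 0xe0304070182005) (nat_lit 0x394c4394c404) (Nat.ble q (nat_lit 5))) (Nat.ble q (nat_lit 6))) (Nat.ble q (nat_lit 7)))

noncomputable def relt_3 (q : ℕ) : ℕ :=
  (@Bool.rec (fun _ => ℕ) (@Bool.rec (fun _ => ℕ) (nat_lit 0x2a0882a08804) (nat_lit 0x1a0681a06804) (Nat.ble q (nat_lit 13))) (@Bool.rec (fun _ => ℕ) (nat_lit 0x120481204804) (@Bool.rec (fun _ => ℕ) (nat_lit 0x40100401004010006) (nat_lit 0x320c8320c804) (Nat.ble q (nat_lit 10))) (Nat.ble q (nat_lit 11))) (Nat.ble q (nat_lit 12)))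

noncomputable def relt_4 (q : ℕ) : ℕ :=
  (@Bool.rec (fun _ => ℕ) (@Bool.rec (fun _ => ℕ) (nat_lit 0x29c8629c8604) (nat_lit 0x11c4611c4604) (Nat.ble q (nat_lit 17))) (@Bool.rec (fun _ => ℕ) (nat_lit 0x114641146404) (nat_lit 0x8020080204) (Nat.ble q (nat_lit 15))) (Nat.ble q (nat_lit 16)))

noncomputable def relt_5 (q : ℕ) : ℕ :=
  (@Bool.rec (fun _ => ℕ) (@Bool.rec (fun _ => ℕ) (nat_lit 0x41d0741d0704) (nat_lit 0x709ce0384e705) (Nat.ble q (nat_lit 22))) (@Bool.rec (fun _ => ℕ) (nat_lit 0x5014a0280a505) (@Bool.rec (fun _ => ℕ) (nat_lit 0x1304e00982705) (nat_lit 0x1380c009c0605) (Nat.ble q (nat_lit 19))) (Nat.ble q (nat_lit 20))) (Nat.ble q (nat_lit 21)))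

noncomputable def relt_6 (q : ℕ) : ℕ :=
  (@Bool.rec (fun _ => ℕ) (@Bool.rec (fun _ => ℕ) (nat_lit 0x415044150404) (nat_lit 0x40d0340d0304) (Nat.ble q (nat_lit 26))) (@Bool.rec (fun _ => ℕ) (nat_lit 0x409024090204) (nat_lit 0x2008020080200806) (Nat.ble q (nat_lit 24))) (Nat.ble q (nat_lit 25)))

noncomputable def relt_7 (q : ℕ) : ℕ :=
  (@Bool.rec (fun _ => ℕ) (@Bool.rec (fun _ => ℕ) (nat_lit 0x290a402) (nat_lit 0x18c6302) (Nat.ble q (nat_lit 31))) (@Bool.rec (fun _ => ℕ) (nat_lit 0x1084202) (@Bool.rec (fun _ => ℕ) (nat_lit 0x842102) (nat_lit 0x2) (Nat.ble q (nat_lit 28))) (Nat.ble q (nat_lit 29))) (Nat.ble q (nat_lit 30)))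

noncomputable def relt_8 (q : ℕ) : ℕ :=
  (@Bool.rec (fun _ => ℕ) (@Bool.rec (fun _ => ℕ) (nat_lit 0x4210802) (nat_lit 0x31cc702) (Nat.ble q (nat_lit 35))) (@Bool.rec (fun _ => ℕ) (nat_lit 0x398e602) (nat_lit 0x2148502) (Nat.ble q (nat_lit 33))) (Nat.ble q (nat_lit 34)))

noncomputable def rel (q : ℕ) : ℕ :=
  (@Bool.rec (fun _ => ℕ) (@Bool.rec (fun _ => ℕ) (@Bool.rec (fun _ => ℕ) (relt_8 q) (relt_7 q) (Nat.ble q (nat_lit 32))) (@Bool.rec (fun _ => ℕ) (relt_6 q) (relt_5 q) (Nat.ble q (nat_lit 23))) (Nat.ble q (nat_lit 27))) (@Bool.rec (fun _ => ℕ) (@Bool.rec (fun _ => ℕ) (relt_4 q) (relt_3 q) (Nat.ble q (nat_lit 14))) (@Bool.rec (fun _ => ℕ) (relt_2 q) (relt_1 q) (Nat.ble q (nat_lit 4))) (Nat.ble q (nat_lit 9))) (Nat.ble q (nat_lit 18)))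

/-- inverse letters -/
noncomputable def iv : ℕ → ℕ := lget [0, 1, 2, 3, 5, 4, 7, 6, 8] 0

/-- the relators -/
def base : List (List ℕ) :=
  [[0, 2, 0, 2],
   [2, 4, 3, 5],
   [2, 6, 2, 7],
   [4, 6, 5, 7],
   [0, 1, 6, 0, 7],
   [0, 1, 7, 1, 6],
   [0, 4, 0, 4, 4],
   [0, 6, 1, 6, 6],
   [8, 6, 8, 6],
   [0, 8, 0, 8, 0, 8],
   [8, 2, 8, 2],
   [8, 3, 8, 3],
   [8, 4, 8, 5]]

noncomputable def chk : ℕ → Bool := chkRow row rel (nat_lit 9) (nat_lit 15) (nat_lit 37) (nat_lit 63) (nat_lit 1)

theorem b0 : ball chk (nat_lit 4) (nat_lit 0) = true := by decide +kernel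

theorem rel_ok : relChk rel (allW iv 9 base) 2 = true := by decide +kernel

theorem len_ok : 2 + (allW iv 9 base).length = 37 := by decide +kernel

theorem live_ok : bsum (fun c => b2n (live row 9 15 c)) 4 0 = 15 := by decide +kernel

theorem blk : ∀ j, j < 1 → ball chk 4 j = true
  | 0, _ => b0
  | n + 1, h => absurd h (by omega)

theorem cert : Cert 9 iv base 63 15 :=
  ⟨⟨row, rel, 15, 1, by decide, by decide, rel_ok, by decide +kernel,
    len_ok ▸ rows_of_blocks (f := chk) (M := 15) (fun c h => chkRow_of_le c h) 1 (by decide) blk,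
    live_card (by decide) live_ok⟩⟩

end Cfsg.Agent.TC.J8TU
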